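import Cfsg.Agent.Lib.Order7920.PrimeSection
import Cfsg.Agent.Lib.Blocks.PrincipalDegree
import Cfsg.Agent.Lib.Characters.SmallDegreeSylow
import Cfsg.Agent.Lib.Blocks.Knorr
import Cfsg.Agent.Lib.Small.Basic
import Cfsg.Agent.S4441
import Cfsg.Agent.S0960

/-!
# Simple groups of order `3 · p^a · 2^b`, `a ≤ 2`
-/

set_option autoImplicit false
set_option linter.style.haveILetI false
set_option linter.unusedSectionVars false

noncomputable section

open Cfsg CfsgLib.Characters CfsgLib.CharCorr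
open scoped ComplexConjugate

namespace CfsgLib.PQOrders

universe u

variable {G : Type u} [Group G] [Fintype G] [IsSimpleGroup G]

/-- The value of a nonprincipal character at an involution. -/
theorem value_involution (hnc : ¬ IsMulCommutative G) {χ : IrrCharacter G} (hne : χ ≠ principalIrr G)
    {s : G} (hs : orderOf s = 2) :
    ∃ a : ℤ, (χ : G → ℂ) s = (a : ℂ) ∧ -(charDegree (χ : G → ℂ) : ℤ) < a ∧
      a < (charDegree (χ : G → ℂ) : ℤ) := by
  obtain ⟨n, ρ, hρ, hχ⟩ := χ.2
  obtain ⟨b, ω, h1, h2⟩ := exists_eigenbasis ρ s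
  have hc := character_eq_sum_of_eigenbasis ρ s b ω h2
  have hω : ∀ i, ∃ m : ℤ, ω i = (m : ℂ) := by
    intro i
    have h := h1 i
    rw [hs, sq_eq_one_iff] at h
    rcases h with h | h
    · exact ⟨1, by rw [h, Int.cast_one]⟩
    · exact ⟨-1, by rw [h, Int.cast_neg, Int.cast_one]⟩
  choose m hm using hω
  have hs1 : s ≠ 1 := fun h => by rw [h, orderOf_one] at hs; omega
  have hd : (charDegree (χ : G → ℂ) : ℝ) = (Module.finrank ℂ (Fin n → ℂ) : ℝ) := by
    have h := irr_one_eq_charDegree χ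
    rw [← hχ, Representation.char_one, Nat.cast_inj] at h
    rw [← hχ, h]
  have hval : (χ : G → ℂ) s = ((∑ i, m i : ℤ) : ℂ) := by
    rw [← hχ, hc]
    push_cast
    exact Finset.sum_congr rfl fun i _ => hm i
  refine ⟨_, hval, ?_⟩
  have hle : ‖(χ : G → ℂ) s‖ ≤ (charDegree (χ : G → ℂ) : ℝ) := by
    rw [hd, ← hχ]; exact norm_char_le ρ s
  have hlt : ‖(χ : G → ℂ) s‖ ≠ (charDegree (χ : G → ℂ) : ℝ) := by
    intro h
    rw [hd, ← hχ] at h
    obtain ⟨c, hcs⟩ := (norm_char_eq_iff_scalar ρ s).1 h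
    have hcen : s ∈ Subgroup.center G := by
      refine Subgroup.mem_center_iff.2 fun g => ?_
      refine mul_inv_eq_one.1 (Order7920.eq_one_of_apply_eq_one hne (v := (g * s) * (s * g)⁻¹) ?_)
      have e : ρ (g * s) = ρ (s * g) := by
        rw [map_mul, map_mul, hcs, mul_smul_comm, smul_mul_assoc]
        rfl
      rw [← hχ]
      show LinearMap.trace ℂ _ (ρ _) = LinearMap.trace ℂ _ (ρ 1)
      rw [map_mul, e, ← map_mul, mul_inv_cancel]
    rw [Small.center_eq_bot_of_nc hnc, Subgroup.mem_bot] at hcen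
    exact hs1 hcen
  have h' : |((∑ i, m i : ℤ) : ℝ)| < (charDegree (χ : G → ℂ) : ℝ) := by
    have := lt_of_le_of_ne hle hlt
    rwa [hval, Complex.norm_intCast] at this
  have h'' : |(∑ i, m i)| < (charDegree (χ : G → ℂ) : ℤ) := by exact_mod_cast h'
  exact abs_lt.1 h''

open scoped Classical in
/-- The principal 3-block data and the two counting equations. -/
theorem three_data (hnc : ¬ IsMulCommutative G) [Fact (Nat.Prime 3)] (P : Sylow 3 G)
    (hP : Nat.card (P : Subgroup G) = 3)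
    (hC : Nat.card (Subgroup.centralizer ((P : Subgroup G) : Set G)) = 3) :
    ∃ (S B : ℕ) (f : G → ℕ), B = S + 1 ∧ 2 ≤ S ∧ S % 3 = 1 ∧ S ∣ Nat.card G ∧ B ∣ Nat.card G ∧
      (∀ s : G, orderOf s = 2 → ∃ a : ℤ, -(S : ℤ) < a ∧ a < S ∧ -(B : ℤ) < a + 1 ∧ a + 1 < B ∧
        (f s : ℤ) * (Nat.card (Subgroup.centralizer ({s} : Set G)) : ℤ) ^ 2 * S * B =
          (Nat.card G : ℤ) * (a - S) ^ 2) ∧
      (∃ s : G, orderOf s = 2 ∧ f s = 3) := by
  classical
  have h3G : 3 ∣ Nat.card G := hP ▸ Subgroup.card_subgroup_dvd_card _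
  obtain ⟨M, hM⟩ := CfsgLib.Blocks.exists_isPModular (p := 3)
  have hCle : (P : Subgroup G) ≤ Subgroup.centralizer ((P : Subgroup G) : Set G) := by
    haveI : IsCyclic ↥(P : Subgroup G) := isCyclic_of_prime_card hP
    let _ := IsCyclic.commGroup (α := ↥(P : Subgroup G))
    intro x hx
    rw [Subgroup.mem_centralizer_iff]
    exact fun y hy => congrArg Subtype.val (mul_comm (⟨y, hy⟩ : (P : Subgroup G)) ⟨x, hx⟩)
  have hCP : Subgroup.centralizer ((P : Subgroup G) : Set G) = (P : Subgroup G) :=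
    (Subgroup.eq_of_le_of_card_ge hCle (by rw [hC, hP])).symm
  have hrel := Small.card_centralizer_mul_relIndex (P : Subgroup G)
  set e := (Subgroup.centralizer ((P : Subgroup G) : Set G)).relIndex
    (Subgroup.normalizer ((P : Subgroup G) : Set G)) with he
  have hed : e ∣ 3 - 1 := Small.relIndex_centralizer_normalizer_dvd_of_prime hP
  have he2 : e = 2 := by
    rcases (Nat.dvd_prime Nat.prime_two).1 hed with h | h
    · exact absurd (Subgroup.relIndex_eq_one.1 h) (Small.not_normalizer_le_centralizer hnc h3G P)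
    · exact h
  have hN : Nat.card (Subgroup.normalizer ((P : Subgroup G) : Set G)) = 6 := by
    rw [← hrel, hC, he2]
  obtain ⟨x₀, hx₀⟩ := exists_prime_orderOf_dvd_card' (G := (P : Subgroup G)) 3 hP.symm.dvd
  obtain ⟨x, hxP, hx3⟩ : ∃ x : G, x ∈ (P : Subgroup G) ∧ orderOf x = 3 :=
    ⟨x₀, x₀.2, by rw [Subgroup.orderOf_coe]; exact hx₀⟩
  have hx1 : x ≠ 1 := fun h => by rw [h, orderOf_one] at hx3; omega
  have hPx : (P : Subgroup G) = Subgroup.zpowers x := Small.eq_zpowers_of_mem hP hxP hx1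
  have hxcube : x ^ 3 = 1 := by rw [← hx3]; exact pow_orderOf_eq_one x
  have hxinv : x⁻¹ = x ^ 2 := inv_eq_of_mul_eq_one_right (by rw [← pow_succ']; exact hxcube)
  have hPmem : ∀ y ∈ (P : Subgroup G), y = 1 ∨ y = x ∨ y = x ^ 2 := by
    intro y hy
    rw [hPx, ← mem_powers_iff_mem_zpowers, Submonoid.mem_powers_iff] at hy
    obtain ⟨n, rfl⟩ := hy
    rw [← pow_mod_orderOf, hx3]
    have := Nat.mod_lt n (show 3 > 0 by norm_num)
    interval_cases n % 3 <;> simp
  have hCx : Subgroup.centralizer ({x} : Set G) = (P : Subgroup G) := by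
    conv_rhs => rw [← hCP, hPx, Subgroup.zpowers_eq_closure, Subgroup.centralizer_closure]
  -- an involution inverting `x`
  obtain ⟨s₀, hs₀⟩ := exists_prime_orderOf_dvd_card'
    (G := Subgroup.normalizer ((P : Subgroup G) : Set G)) 2 (by rw [hN]; norm_num)
  set s : G := (s₀ : G) with hsdef
  have hs2 : orderOf s = 2 := by rw [hsdef, Subgroup.orderOf_coe]; exact hs₀
  have hsN : s ∈ Subgroup.normalizer ((P : Subgroup G) : Set G) := s₀.2
  have hsP : s ∉ (P : Subgroup G) := fun h => by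
    have := Subgroup.orderOf_dvd_natCard _ h
    rw [hs2, hP] at this
    omega
  have hsinv : s * x * s⁻¹ = x⁻¹ := by
    rcases hPmem _ ((Subgroup.mem_normalizer_iff.1 hsN x).1 hxP) with h | h | h
    · exact absurd (conj_eq_one_iff.1 h) hx1
    · refine absurd ?_ hsP
      rw [← hCx, Subgroup.mem_centralizer_singleton_iff]
      exact mul_inv_eq_iff_eq_mul.1 h
    · rw [hxinv]; exact h
  -- one class of 3-singular elements
  have hclass : ∀ g : G, 3 ∣ orderOf g ↔ IsConj x g := by
    intro g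
    constructor
    · intro hg
      have hy : orderOf (g ^ (orderOf g / 3)) = 3 := orderOf_pow_orderOf_div (orderOf_pos g).ne' hg
      set y := g ^ (orderOf g / 3) with hydef
      have hpg : IsPGroup 3 (Subgroup.zpowers y) :=
        IsPGroup.of_card (n := 1) (by rw [Nat.card_zpowers, hy, pow_one])
      obtain ⟨Q, hQ⟩ := hpg.exists_le_sylow
      obtain ⟨t, rfl⟩ := MulAction.exists_smul_eq G P Q
      have hym : y ∈ ((t • P : Sylow 3 G) : Subgroup G) := hQ (Subgroup.mem_zpowers y)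
      rw [Sylow.coe_subgroup_smul] at hym
      obtain ⟨u, hu, hut⟩ := hym
      have hut' : t * u * t⁻¹ = y := hut
      have hu1 : u ≠ 1 := fun h => by
        rw [← hut', h, mul_one, mul_inv_cancel, orderOf_one] at hy
        omega
      have hgy : Commute g y := Commute.self_pow g _
      have hgC : t⁻¹ * g * t ∈ Subgroup.centralizer ((P : Subgroup G) : Set G) := by
        rw [Small.eq_zpowers_of_mem hP hu hu1, Subgroup.zpowers_eq_closure,
          Subgroup.centralizer_closure, Subgroup.mem_centralizer_singleton_iff]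
        have h1 : g * (t * u * t⁻¹) = (t * u * t⁻¹) * g := by rw [hut']; exact hgy.eq
        calc t⁻¹ * g * t * u = t⁻¹ * (g * (t * u * t⁻¹)) * t := by group
          _ = u * (t⁻¹ * g * t) := by rw [h1]; group
      rw [hCP] at hgC
      rcases hPmem _ hgC with h | h | h
      · exfalso
        have : g = 1 := by
          calc g = t * (t⁻¹ * g * t) * t⁻¹ := by group
            _ = 1 := by rw [h]; group
        rw [this, orderOf_one] at hg
        omega
      · exact isConj_iff.2 ⟨t, by rw [← h]; group⟩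
      · refine isConj_iff.2 ⟨t * s, ?_⟩
        calc t * s * x * (t * s)⁻¹ = t * (s * x * s⁻¹) * t⁻¹ := by group
          _ = g := by rw [hsinv, hxinv, ← h]; group
    · intro h
      rw [Involutions.orderOf_eq_of_isConj h, hx3]
  have hcard : ((Finset.univ.filter fun g : G => 3 ∣ orderOf g).card : ℂ) * 3 = Nat.card G := by
    have h := ClassCount.card_cls_mul_centralizer x
    rw [hCx, hP] at h
    rw [show Finset.univ.filter (fun g : G => 3 ∣ orderOf g) = ClassCount.cls x by
      ext g; simp [ClassCount.mem_cls, hclass]]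
    exact_mod_cast h
  -- the principal block relation
  obtain ⟨X, Y, hXY, hdisj, hXc, hYc, εX, εY, hX, hεY, -, -, hrelY⟩ :=
    Cfsg.Agent.S4441.result 3 M hM (by norm_num) P hP e rfl
  rw [he2] at hXc
  rw [he2, show (3 - 1) / 2 = 1 by norm_num, Nat.card_eq_one_iff_unique] at hYc
  obtain ⟨hYs, ⟨θ, hθ⟩⟩ := hYc
  obtain ⟨u, v, huv, hXuv⟩ := Set.ncard_eq_two.1 ((Nat.card_coe_set_eq X).symm.trans hXc)
  have huX : u ∈ X := hXuv ▸ Set.mem_insert u {v}
  have hvX : v ∈ X := hXuv ▸ Set.mem_insert_of_mem u rfl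
  have hθu : θ ≠ u := fun h => Set.disjoint_left.1 hdisj huX (h ▸ hθ)
  have hθv : θ ≠ v := fun h => Set.disjoint_left.1 hdisj hvX (h ▸ hθ)
  have hreg : ∀ g : G, ¬ 3 ∣ orderOf g →
      (εX u : ℂ) * (u : G → ℂ) g + (εX v : ℂ) * (v : G → ℂ) g +
        ((-εY : ℤ) : ℂ) * (θ : G → ℂ) g = 0 := by
    intro g hg
    have h := hrelY θ hθ g hg
    rw [hXuv, finsum_mem_pair huv] at h
    push_cast
    linear_combination -h
  -- normalise at the principal character
  obtain ⟨χ₁, χ₂, η₁, η₂, h1, h2, h12, hη₁, hη₂, hΦ⟩ : ∃ (χ₁ χ₂ : IrrCharacter G) (η₁ η₂ : ℤ),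
      χ₁ ≠ principalIrr G ∧ χ₂ ≠ principalIrr G ∧ χ₁ ≠ χ₂ ∧ (η₁ = 1 ∨ η₁ = -1) ∧ (η₂ = 1 ∨ η₂ = -1) ∧
      ∀ g : G, ¬ 3 ∣ orderOf g →
        1 + (η₁ : ℂ) * (χ₁ : G → ℂ) g + (η₂ : ℂ) * (χ₂ : G → ℂ) g = 0 := by
    have hpr : principalIrr G ∈ X ∪ Y := by
      rw [← hXY]; exact CfsgLib.Blocks.principalIrr_mem hM
    have hpr1 : ∀ g : G, ((principalIrr G : IrrCharacter G) : G → ℂ) g = 1 := fun g => by
      simp [principalIrr]
    have sq : ∀ {c : ℤ}, (c = 1 ∨ c = -1) → (c : ℂ) * c = 1 := by rintro c (rfl | rfl) <;> norm_num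
    have prd : ∀ {c d : ℤ}, (c = 1 ∨ c = -1) → (d = 1 ∨ d = -1) → (c * d = 1 ∨ c * d = -1) := by
      rintro c d (rfl | rfl) (rfl | rfl) <;> simp
    have hY' : -εY = 1 ∨ -εY = -1 := by omega
    rcases hpr with h | h
    · rw [hXuv, Set.mem_insert_iff, Set.mem_singleton_iff] at h
      rcases h with h | h
      · refine ⟨v, θ, εX u * εX v, εX u * -εY, fun h' => huv (h.symm.trans h'.symm),
          fun h' => hθu (h'.trans h), hθv.symm, prd (hX u huX).1 (hX v hvX).1,
          prd (hX u huX).1 hY', fun g hg => ?_⟩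
        have h' := hreg g hg
        rw [← h, hpr1] at h'
        rw [← h]
        push_cast at h' ⊢
        linear_combination (εX (principalIrr G) : ℂ) * h' - sq (h ▸ (hX u huX).1)
      · refine ⟨u, θ, εX v * εX u, εX v * -εY, fun h' => huv (h'.trans h),
          fun h' => hθv (h'.trans h), hθu.symm, prd (hX v hvX).1 (hX u huX).1,
          prd (hX v hvX).1 hY', fun g hg => ?_⟩
        have h' := hreg g hg
        rw [← h, hpr1] at h'
        rw [← h]
        push_cast at h' ⊢
        linear_combination (εX (principalIrr G) : ℂ) * h' - sq (h ▸ (hX v hvX).1)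
    · haveI := hYs
      have hθ' : θ = principalIrr G := congrArg Subtype.val (Subsingleton.elim
        (⟨θ, hθ⟩ : Y) ⟨principalIrr G, h⟩)
      refine ⟨u, v, -εY * εX u, -εY * εX v, fun h' => hθu (hθ'.trans h'.symm),
        fun h' => hθv (hθ'.trans h'.symm), huv, prd hY' (hX u huX).1, prd hY' (hX v hvX).1,
        fun g hg => ?_⟩
      have h' := hreg g hg
      rw [hθ', hpr1] at h'
      push_cast at h' ⊢
      linear_combination (-(εY : ℂ)) * h' - sq hεY
  set Φ : G → ℂ := fun g => 1 + (η₁ : ℂ) * (χ₁ : G → ℂ) g + (η₂ : ℂ) * (χ₂ : G → ℂ) g with hΦdef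
  have hΦx : ∀ g : G, 3 ∣ orderOf g → Φ g = Φ x := fun g hg => by
    simp only [hΦdef, classFunction_eq_of_isConj (irr_isClassFunction χ₁) ((hclass g).1 hg),
      classFunction_eq_of_isConj (irr_isClassFunction χ₂) ((hclass g).1 hg)]
  have hinner : ∀ χ : IrrCharacter G, classInner Φ (χ : G → ℂ) = Φ x * conj ((χ : G → ℂ) x) / 3 := by
    intro χ
    rw [classInner]
    have e1 : ∑ g : G, Φ g * conj ((χ : G → ℂ) g) =
        ∑ g ∈ Finset.univ.filter (fun g : G => 3 ∣ orderOf g), Φ x * conj ((χ : G → ℂ) x) := by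
      rw [Finset.sum_filter]
      refine Finset.sum_congr rfl fun g _ => ?_
      split_ifs with hg
      · rw [hΦx g hg, ← classFunction_eq_of_isConj (irr_isClassFunction χ) ((hclass g).1 hg)]
      · rw [show Φ g = 0 from hΦ g hg, zero_mul]
    rw [e1, Finset.sum_const, nsmul_eq_mul, ← hcard]
    have h0 : ((Finset.univ.filter fun g : G => 3 ∣ orderOf g).card : ℂ) ≠ 0 :=
      Nat.cast_ne_zero.2 (Finset.card_pos.2 ⟨x, by simp [hx3]⟩).ne'
    field_simp
  have hdecomp : Φ = (principalIrr G : G → ℂ) + ((η₁ : ℂ) • (χ₁ : G → ℂ) + (η₂ : ℂ) • (χ₂ : G → ℂ)) := by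
    funext g
    simp [hΦdef, principalIrr, add_assoc]
  have hinner' : ∀ χ : IrrCharacter G, classInner Φ (χ : G → ℂ) =
      (if principalIrr G = χ then 1 else 0) + ((η₁ : ℂ) * (if χ₁ = χ then 1 else 0) +
        (η₂ : ℂ) * (if χ₂ = χ then 1 else 0)) := by
    intro χ
    rw [hdecomp]
    simp only [classInner_add_left, classInner_smul_left, classInner_irr]
  have hΦ3 : Φ x = 3 := by
    have h := (hinner (principalIrr G)).symm.trans (hinner' (principalIrr G))
    rw [if_pos rfl, if_neg h1, if_neg h2] at h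
    simp [principalIrr] at h
    field_simp at h
    exact h
  have hvx : ∀ χ : IrrCharacter G, (χ : G → ℂ) x⁻¹ =
      (if principalIrr G = χ then 1 else 0) + ((η₁ : ℂ) * (if χ₁ = χ then 1 else 0) +
        (η₂ : ℂ) * (if χ₂ = χ then 1 else 0)) := by
    intro χ
    rw [irr_apply_inv, ← hinner' χ, hinner χ, hΦ3]
    ring
  have hdeg : (1 : ℤ) + η₁ * charDegree (χ₁ : G → ℂ) + η₂ * charDegree (χ₂ : G → ℂ) = 0 := by
    have h := hΦ 1 (by rw [orderOf_one]; norm_num)
    rw [irr_one_eq_charDegree, irr_one_eq_charDegree] at h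
    exact_mod_cast h
  have hmod : ∀ (χ : IrrCharacter G) (η : ℤ), (χ : G → ℂ) x⁻¹ = (η : ℂ) →
      (3 : ℤ) ∣ (charDegree (χ : G → ℂ) : ℤ) - η := by
    intro χ η hη
    obtain ⟨k, hk⟩ := ClassCount.exists_mult χ (P : Subgroup G)
    rw [hP, ← Finset.add_sum_erase _ _ (Finset.mem_univ (1 : (P : Subgroup G))),
      Finset.sum_congr rfl ((fun y hy => by
        have hy1 : (y : G) ≠ 1 := fun h => (Finset.mem_erase.1 hy).1 (Subtype.ext h)
        rw [← hη]
        refine (classFunction_eq_of_isConj (irr_isClassFunction χ) ?_).symm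
        have h3 : ∀ z ∈ (P : Subgroup G), z ≠ 1 → IsConj x z := fun z hz hz1 =>
          (hclass z).1 (by
            have := Small.eq_zpowers_of_mem hP hz hz1
            rw [← Nat.card_zpowers z, ← this, hP])
        exact ((h3 _ (inv_mem hxP) (inv_ne_one.2 hx1)).symm).trans
          (h3 _ (inv_mem y.2) (inv_ne_one.2 hy1))) :
        ∀ y ∈ Finset.univ.erase (1 : (P : Subgroup G)), (χ : G → ℂ) ((y : G)⁻¹) = (η : ℂ)),
      Finset.sum_const, Finset.card_erase_of_mem (Finset.mem_univ _), Finset.card_univ,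
      ← Nat.card_eq_fintype_card, hP, OneMemClass.coe_one, inv_one, irr_one_eq_charDegree] at hk
    have h' : ((charDegree (χ : G → ℂ) + 2 * η : ℤ) : ℂ) = ((3 * k : ℤ) : ℂ) := by
      push_cast
      simpa using hk
    exact ⟨k - η, by have := Int.cast_inj.1 h'; omega⟩
  have hm1 : (3 : ℤ) ∣ (charDegree (χ₁ : G → ℂ) : ℤ) - η₁ := hmod χ₁ η₁ (by
    rw [hvx, if_neg h1.symm, if_pos rfl, if_neg h12.symm]; ring)
  have hm2 : (3 : ℤ) ∣ (charDegree (χ₂ : G → ℂ) : ℤ) - η₂ := hmod χ₂ η₂ (by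
    rw [hvx, if_neg h2.symm, if_pos rfl, if_neg h12]; ring)
  have hd1 : charDegree (χ₁ : G → ℂ) ≠ 1 := fun h =>
    h1 (Order7920.eq_principal_of_charDegree_one hnc h)
  have hd2 : charDegree (χ₂ : G → ℂ) ≠ 1 := fun h =>
    h2 (Order7920.eq_principal_of_charDegree_one hnc h)
  have hp1 := Chars17.irrDegree_pos χ₁
  have hp2 := Chars17.irrDegree_pos χ₂
  obtain ⟨χS, χB, hneS, hneB, hBS, hSmod, hΦ', hvx'⟩ : ∃ χS χB : IrrCharacter G,
      χS ≠ principalIrr G ∧ χB ≠ principalIrr G ∧
      charDegree (χB : G → ℂ) = charDegree (χS : G → ℂ) + 1 ∧ charDegree (χS : G → ℂ) % 3 = 1 ∧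
      (∀ g : G, ¬ 3 ∣ orderOf g → (χB : G → ℂ) g = (χS : G → ℂ) g + 1) ∧
      (∀ χ : IrrCharacter G, (χ : G → ℂ) x⁻¹ = (if principalIrr G = χ then 1 else 0) +
        ((if χS = χ then 1 else 0) - (if χB = χ then 1 else 0))) := by
    rcases hη₁ with e1 | e1 <;> rcases hη₂ with e2 | e2 <;>
      simp only [e1, e2] at hΦ hvx hdeg hm1 hm2
    · omega
    · refine ⟨χ₁, χ₂, h1, h2, by omega, by omega, fun g hg => ?_, fun χ => ?_⟩
      · have := hΦ g hg; push_cast at this; linear_combination -this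
      · rw [hvx χ]; push_cast; ring
    · refine ⟨χ₂, χ₁, h2, h1, by omega, by omega, fun g hg => ?_, fun χ => ?_⟩
      · have := hΦ g hg; push_cast at this; linear_combination -this
      · rw [hvx χ]; push_cast; ring
    · omega
  have hSpos := Chars17.irrDegree_pos χS
  have hS1 : charDegree (χS : G → ℂ) ≠ 1 := fun h =>
    hneS (Order7920.eq_principal_of_charDegree_one hnc h)
  refine ⟨charDegree (χS : G → ℂ), charDegree (χB : G → ℂ),
    fun t => (ClassCount.pairs t t {x}).card, hBS, by omega, hSmod, charDegree_irr_dvd_card _,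
    charDegree_irr_dvd_card _, fun t ht => ?_, s, hs2, ?_⟩
  · obtain ⟨a, ha, hal, har⟩ := value_involution hnc hneS ht
    obtain ⟨a', ha', hal', har'⟩ := value_involution hnc hneB ht
    have haa : a' = a + 1 := by
      have h := hΦ' t (by rw [ht]; norm_num)
      rw [ha, ha'] at h
      exact_mod_cast h
    subst haa
    refine ⟨a, hal, har, hal', har', ?_⟩
    have h := ClassCount.card_pairs_mul_centralizers t t {x}
    simp only [Finset.sum_singleton, hvx', mul_add, mul_sub, Finset.sum_add_distrib,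
      Finset.sum_sub_distrib, mul_ite, mul_one, mul_zero, Finset.sum_ite_eq, Finset.mem_univ,
      if_true, ha, ha'] at h
    simp only [principalIrr, mul_one] at h
    have hc : ∀ χ : IrrCharacter G, (ClassCount.cofDegree χ : ℂ) * (charDegree (χ : G → ℂ) : ℂ) =
        (Nat.card G : ℂ) := fun χ => by
      rw [mul_comm, ← Nat.cast_mul, ClassCount.degree_mul_cofDegree]
    have hpr : (ClassCount.cofDegree (principalIrr G) : ℂ) = (Nat.card G : ℂ) := by
      have := hc (principalIrr G)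
      simpa [principalIrr, charDegree] using this
    simp only [principalIrr] at hpr
    rw [hpr] at h
    have hfin : (((((ClassCount.pairs t t {x}).card : ℤ)) *
        (Nat.card (Subgroup.centralizer ({t} : Set G)) : ℤ) ^ 2 * (charDegree (χS : G → ℂ) : ℤ) *
        (charDegree (χB : G → ℂ) : ℤ) : ℤ) : ℂ) =
        (((Nat.card G : ℤ) * (a - (charDegree (χS : G → ℂ) : ℤ)) ^ 2 : ℤ) : ℂ) := by
      have eB : (charDegree (χB : G → ℂ) : ℂ) = (charDegree (χS : G → ℂ) : ℂ) + 1 := by
        exact_mod_cast hBS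
      have e1 := hc χS
      have e2 := hc χB
      push_cast at h ⊢
      rw [eB] at e2 ⊢
      linear_combination ((charDegree (χS : G → ℂ) : ℂ) * ((charDegree (χS : G → ℂ) : ℂ) + 1)) * h +
        ((a : ℂ) * a * ((charDegree (χS : G → ℂ) : ℂ) + 1)) * e1 -
        (((a : ℂ) + 1) * ((a : ℂ) + 1) * (charDegree (χS : G → ℂ) : ℂ)) * e2
    exact Int.cast_inj.1 hfin
  · -- exactly three pairs
    have hs' : s * s = 1 := by rw [← sq, ← hs2]; exact pow_orderOf_eq_one s
    have hssx : s * x = x⁻¹ * s := by rw [← hsinv]; group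
    have hmem : ∀ i : ℕ, IsConj s (s * x ^ i) := by
      intro i
      have hsx : ∀ n : ℕ, (x ^ n) * s = s * (x⁻¹) ^ n := by
        intro n
        have : SemiconjBy s (x⁻¹) x := by
          rw [SemiconjBy]
          calc s * x⁻¹ = (s * x * s⁻¹)⁻¹ * s⁻¹⁻¹ * 1 := by group
            _ = x * s := by rw [hsinv]; group
        exact (this.pow_right n).eq.symm
      refine isConj_iff.2 ⟨x ^ i, ?_⟩
      rw [hsx, ← inv_pow, mul_assoc, ← pow_add]
      have e : x⁻¹ ^ (i + i) = x ^ i := by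
        rw [hxinv, ← pow_mul, show 2 * (i + i) = i + 3 * i by ring, pow_add, pow_mul, hxcube, one_pow,
          mul_one]
      rw [e]
    apply le_antisymm
    · have hsub : (ClassCount.pairs s s {x}).image Prod.fst ⊆
          Finset.univ.filter (fun t : G => t ∈ Subgroup.normalizer ((P : Subgroup G) : Set G) ∧
            t ∉ (P : Subgroup G)) := by
        intro t ht
        obtain ⟨⟨t', u'⟩, hz, rfl⟩ := Finset.mem_image.1 ht
        simp only [ClassCount.pairs, Finset.mem_filter, Finset.mem_product, ClassCount.mem_cls,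
          Finset.mem_singleton] at hz
        obtain ⟨⟨hc1, hc2⟩, hprod⟩ := hz
        have ht2 : orderOf t' = 2 := (Involutions.orderOf_eq_of_isConj hc1).trans hs2
        have hu2 : orderOf u' = 2 := (Involutions.orderOf_eq_of_isConj hc2).trans hs2
        have et : t'⁻¹ = t' := inv_eq_of_mul_eq_one_right (by rw [← sq, ← ht2]; exact pow_orderOf_eq_one _)
        have eu : u'⁻¹ = u' := inv_eq_of_mul_eq_one_right (by rw [← sq, ← hu2]; exact pow_orderOf_eq_one _)
        have hinv : t' * x * t'⁻¹ = x⁻¹ := by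
          rw [← hprod, mul_inv_rev, et, eu, ← mul_assoc]
          nth_rw 1 [show t' * t' = 1 by rw [← sq, ← ht2]; exact pow_orderOf_eq_one _]
          rw [one_mul]
        refine Finset.mem_filter.2 ⟨Finset.mem_univ _, ?_, fun hm => ?_⟩
        · rw [hPx]
          refine Subgroup.mem_normalizer_iff.2 fun y => ⟨fun hy => ?_, fun hy => ?_⟩
          · obtain ⟨n, rfl⟩ := Subgroup.mem_zpowers_iff.1 hy
            rw [← conj_zpow, hinv]
            exact Subgroup.zpow_mem _ (inv_mem (Subgroup.mem_zpowers x)) n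
          · obtain ⟨n, hn⟩ := Subgroup.mem_zpowers_iff.1 hy
            refine Subgroup.mem_zpowers_iff.2 ⟨-n, ?_⟩
            calc x ^ (-n) = t'⁻¹ * ((t' * x * t'⁻¹) ^ (-n)) * t' := by rw [conj_zpow]; group
              _ = y := by rw [hinv, inv_zpow', neg_neg, hn]; group
        · have := Subgroup.orderOf_dvd_natCard _ hm
          rw [ht2, hP] at this
          omega
      have hinj : Set.InjOn Prod.fst (ClassCount.pairs s s {x} : Set (G × G)) := by
        rintro ⟨a, b⟩ hab ⟨c, d⟩ hcd (h : a = c)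
        simp only [ClassCount.pairs, Finset.coe_filter, Set.mem_setOf_eq, Finset.mem_singleton] at hab hcd
        subst h
        exact Prod.ext rfl (mul_left_cancel (hab.2.trans hcd.2.symm))
      show (ClassCount.pairs s s {x}).card ≤ 3
      rw [← Finset.card_image_of_injOn hinj]
      refine (Finset.card_le_card hsub).trans ?_
      have e : Finset.univ.filter (fun t : G => t ∈ Subgroup.normalizer ((P : Subgroup G) : Set G) ∧
            t ∉ (P : Subgroup G)) =
          Finset.univ.filter (fun t : G => t ∈ Subgroup.normalizer ((P : Subgroup G) : Set G)) \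
            Finset.univ.filter (fun t : G => t ∈ (P : Subgroup G)) := by
        ext t; simp
      have c1 : (Finset.univ.filter
          (fun t : G => t ∈ Subgroup.normalizer ((P : Subgroup G) : Set G))).card = 6 := by
        rw [← hN, Nat.card_eq_fintype_card, Fintype.card_subtype]
      have c2 : (Finset.univ.filter (fun t : G => t ∈ (P : Subgroup G))).card = 3 := by
        exact (Fintype.card_subtype _).symm.trans (Nat.card_eq_fintype_card.symm.trans hP)
      rw [e, Finset.card_sdiff_of_subset (fun t ht => by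
        simp only [Finset.mem_filter] at ht ⊢
        exact ⟨ht.1, Subgroup.le_normalizer ht.2⟩), c1, c2]
    · let F : Fin 3 → G × G := fun i => (s * x ^ (i : ℕ), s * x ^ ((i : ℕ) + 1))
      have hF : Function.Injective F := fun i j h => by
        have h' : x ^ (i : ℕ) = x ^ (j : ℕ) := mul_left_cancel (congrArg Prod.fst h)
        exact Fin.ext (pow_injOn_Iio_orderOf (Set.mem_Iio.2 (hx3.symm ▸ i.2))
          (Set.mem_Iio.2 (hx3.symm ▸ j.2)) h')
      have hFmem : Finset.univ.image F ⊆ ClassCount.pairs s s {x} := by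
        intro z hz
        obtain ⟨i, -, rfl⟩ := Finset.mem_image.1 hz
        simp only [ClassCount.pairs, Finset.mem_filter, Finset.mem_product, ClassCount.mem_cls,
          Finset.mem_singleton, F]
        refine ⟨⟨hmem _, hmem _⟩, ?_⟩
        have h2 : (s * x ^ (i : ℕ)) * (s * x ^ (i : ℕ)) = 1 := by
          have ho : orderOf (s * x ^ (i : ℕ)) = 2 := (Involutions.orderOf_eq_of_isConj (hmem _)).trans hs2
          rw [← sq, ← ho]; exact pow_orderOf_eq_one _
        rw [pow_succ, ← mul_assoc s, ← mul_assoc, h2, one_mul]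
      have := Finset.card_le_card hFmem
      rwa [Finset.card_image_of_injective _ hF, Finset.card_univ, Fintype.card_fin] at this

/-- Comparing exponents. -/
theorem factorization_eq {l C w A B : ℕ} (hC : C ≠ 0) (hA : A ≠ 0) (hB : B ≠ 0)
    (h : C ^ 2 * A = B * w ^ 2) :
    2 * C.factorization l + A.factorization l = B.factorization l + 2 * w.factorization l := by
  have hw : w ≠ 0 := by
    rintro rfl
    simp [hC, hA] at h
  have h' := congrArg (fun n => n.factorization l) h
  simpa [Nat.factorization_mul, Nat.factorization_pow, hC, hA, hB, hw] using h'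

/-- The case `p = 2^j - 1 ≥ 31` does not occur. -/
theorem mersenne_false (hnc : ¬ IsMulCommutative G) {p j : ℕ} [hp : Fact p.Prime] (hj : 5 ≤ j)
    (hpj : p + 1 = 2 ^ j) (hG : Nat.card G = 3 * p * 2 ^ j) (P : Sylow p G)
    (hP : Nat.card (P : Subgroup G) = p)
    (he : (Subgroup.centralizer ((P : Subgroup G) : Set G)).relIndex
      (Subgroup.normalizer ((P : Subgroup G) : Set G)) = 3) (h3 : 3 ∣ p - 1) : False := by
  classical
  obtain ⟨M, hM⟩ := CfsgLib.Blocks.exists_isPModular (p := p)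
  have h32 : 32 ≤ 2 ^ j := (show (32 : ℕ) = 2 ^ 5 by norm_num) ▸ Nat.pow_le_pow_right (by norm_num) hj
  obtain ⟨hcard, hdeg⟩ := Cfsg.Agent.S0960.result (G := G) p M hM (by omega) P hP 3 he
  have hmain : ∀ χ ∈ principalBlock M G, χ ≠ principalIrr G → charDegree (χ : G → ℂ) = p + 1 := by
    intro χ hχ hne
    have hd2 : charDegree (χ : G → ℂ) ^ 2 ≤ Nat.card G := by
      have h := Finset.single_le_sum (f := fun η : IrrCharacter G => charDegree (η : G → ℂ) ^ 2)
        (fun _ _ => Nat.zero_le _) (Finset.mem_univ χ)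
      rwa [Chars17.natSum_sq_degrees] at h
    have hd1 : charDegree (χ : G → ℂ) ≠ 1 := fun h =>
      hne (Order7920.eq_principal_of_charDegree_one hnc h)
    have hd3 : charDegree (χ : G → ℂ) ≠ 3 := by
      intro h
      obtain ⟨n, ρ, hρ, hχρ⟩ := χ.2
      have hn : n = 3 := by
        have h1 := irr_one_eq_charDegree χ
        rw [h, ← hχρ, Representation.char_one, Module.finrank_fin_fun] at h1
        exact_mod_cast h1
      have hinj : Function.Injective ρ := fun g g' hgg => by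
        refine (mul_inv_eq_one.1 (Order7920.eq_one_of_apply_eq_one hne (v := g * g'⁻¹) ?_))
        rw [← hχρ]
        show LinearMap.trace ℂ _ (ρ _) = LinearMap.trace ℂ _ (ρ 1)
        rw [map_mul, hgg, ← map_mul, mul_inv_cancel]
      have hnorm := SmallDegree.normal_sylow ρ hinj (Or.inl (by rw [hn]; omega)) P
      rcases hnorm.eq_bot_or_eq_top with h' | h'
      · rw [h', Subgroup.card_bot] at hP
        exact hp.out.ne_one hP.symm
      · exact Small.sylow_ne_top hnc P h'
    obtain ⟨d, hd⟩ : ∃ d, charDegree (χ : G → ℂ) = d := ⟨_, rfl⟩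
    have hmods := hdeg χ hχ
    rw [hd] at hd1 hd2 hd3 hmods ⊢
    have hdp : ¬ p ∣ d := by
      intro h
      have h' : (p : ℤ) ∣ (d : ℤ) := Int.natCast_dvd_natCast.2 h
      rcases hmods with hh | hh | hh | hh <;>
        · rw [Int.modEq_iff_dvd] at hh
          have h2 := dvd_add hh h'
          rw [sub_add_cancel] at h2
          have h3' := Int.natAbs_dvd_natAbs.2 h2
          simp at h3'
          first
          | omega
          | (have := Nat.le_of_dvd (by norm_num) h3'; omega)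
    have hddvd : d ∣ 3 * 2 ^ j := by
      refine Nat.Coprime.dvd_of_dvd_mul_left ((hp.out.coprime_iff_not_dvd.2 hdp).symm) ?_
      have := charDegree_irr_dvd_card χ
      rw [hd, hG] at this
      rwa [show p * (3 * 2 ^ j) = 3 * p * 2 ^ j by ring]
    have hlt : d < 2 * 2 ^ j := by
      refine lt_of_pow_lt_pow_left₀ 2 (Nat.zero_le _) (hd2.trans_lt ?_)
      rw [hG]
      have : (2 : ℕ) ^ j > 0 := by omega
      nlinarith
    -- `d` is `2^i` or `3 · 2^i`
    obtain ⟨i, hi⟩ : ∃ i, d = 2 ^ i ∨ d = 3 * 2 ^ i := by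
      obtain ⟨a, b, ha, hb, hab⟩ := exists_dvd_and_dvd_of_dvd_mul hddvd
      rcases (Nat.dvd_prime Nat.prime_three).1 ha with rfl | rfl
      all_goals obtain ⟨i, -, rfl⟩ := (Nat.dvd_prime_pow Nat.prime_two).1 hb
      · exact ⟨i, Or.inl (by simpa using hab)⟩
      · exact ⟨i, Or.inr hab⟩
    have hcong : (p : ℤ) ∣ (d : ℤ) - 1 ∨ (p : ℤ) ∣ (d : ℤ) + 1 ∨ (p : ℤ) ∣ (d : ℤ) - 3 ∨
        (p : ℤ) ∣ (d : ℤ) + 3 := by
      rcases hmods with hh | hh | hh | hh <;> rw [Int.modEq_comm, Int.modEq_iff_dvd] at hh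
      · exact Or.inl hh
      · exact Or.inr (Or.inl (by simpa using hh))
      · exact Or.inr (Or.inr (Or.inl (by simpa using hh)))
      · exact Or.inr (Or.inr (Or.inr (by simpa using hh)))
    have hsmall : ∀ z : ℤ, (p : ℤ) ∣ z → z < p → -(p : ℤ) < z → z = 0 := fun z hz h1 h2 =>
      Int.eq_zero_of_abs_lt_dvd hz (abs_lt.2 ⟨h2, h1⟩)
    have hsmall2 : ∀ z : ℤ, (p : ℤ) ∣ z → z < 2 * p → 0 < z → z = p := fun z hz h1 h2 => by
      have := hsmall (z - p) (hz.sub dvd_rfl) (by omega) (by omega)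
      omega
    rcases hi with hi | hi
    · rcases lt_trichotomy i j with hij | rfl | hij
      · have h2 : 2 * 2 ^ i ≤ 2 ^ j := by
          rw [← pow_succ']; exact Nat.pow_le_pow_right (by norm_num) hij
        rw [← hi] at h2
        exfalso
        rcases hcong with h | h | h | h <;> have := hsmall _ h (by omega) (by omega) <;> omega
      · omega
      · exfalso
        have h2 : 2 * 2 ^ j ≤ 2 ^ i := by
          rw [← pow_succ']; exact Nat.pow_le_pow_right (by norm_num) hij
        omega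
    · exfalso
      rcases Nat.lt_or_ge (i + 1) j with hij | hij
      · have h2 : 4 * 2 ^ i ≤ 2 ^ j := by
          rw [show 4 * 2 ^ i = 2 ^ (i + 2) by ring]; exact Nat.pow_le_pow_right (by norm_num) hij
        rcases hcong with h | h | h | h <;> have := hsmall _ h (by omega) (by omega) <;> omega
      · have h2 : 2 ^ j ≤ 2 * 2 ^ i := by
          rw [← pow_succ']; exact Nat.pow_le_pow_right (by norm_num) hij
        have h3' : 2 ^ i < 2 ^ j := by omega
        have h4 : 2 * 2 ^ i = 2 ^ j := by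
          refine le_antisymm ?_ h2
          rw [← pow_succ']
          exact Nat.pow_le_pow_right (by norm_num) ((Nat.pow_lt_pow_iff_right (by norm_num)).1 h3')
        rcases hcong with h | h | h | h <;> have := hsmall2 _ h (by omega) (by omega) <;> omega
  -- too many characters
  have hpr : principalIrr G ∈ principalBlock M G := CfsgLib.Blocks.principalIrr_mem hM
  set T := Finset.univ.filter (fun χ : IrrCharacter G => χ ∈ principalBlock M G) with hT
  have hTc : T.card = 3 + (p - 1) / 3 := by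
    rw [← hcard, Nat.card_eq_fintype_card, hT, Fintype.card_subtype]
  have hsum : ∑ χ ∈ T.erase (principalIrr G), charDegree (χ : G → ℂ) ^ 2 ≤ Nat.card G :=
    (Finset.sum_le_univ_sum_of_nonneg fun _ => Nat.zero_le _).trans Chars17.natSum_sq_degrees.le
  rw [Finset.sum_congr rfl ((fun χ hχ => by
      obtain ⟨hne, hmem⟩ := Finset.mem_erase.1 hχ
      rw [hmain χ (Finset.mem_filter.1 hmem).2 hne]) :
      ∀ χ ∈ T.erase (principalIrr G), charDegree (χ : G → ℂ) ^ 2 = (p + 1) ^ 2),
    Finset.sum_const, Finset.card_erase_of_mem (by simp [hT, hpr]), hTc, smul_eq_mul, hG, ← hpj] at hsum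
  obtain ⟨k, hk⟩ := h3
  rw [hk, Nat.mul_div_cancel_left k (by norm_num)] at hsum
  have hp31 : 31 ≤ p := by omega
  have hk' : p = 3 * k + 1 := by omega
  subst hk'
  rw [show 3 + k - 1 = k + 2 by omega] at hsum
  nlinarith

/-- A simple group of order `3 p^a 2^b` with `a ≤ 2` has order 60 or 168. -/
theorem card_three (hnc : ¬ IsMulCommutative G) {p a b : ℕ} (hp : p.Prime) (hp2 : p ≠ 2) (hp3 : p ≠ 3)
    (ha1 : 1 ≤ a) (ha2 : a ≤ 2) (hb : 1 ≤ b) (hG : Nat.card G = 3 * p ^ a * 2 ^ b) :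
    Nat.card G = 60 ∨ Nat.card G = 168 := by
  classical
  haveI h3f : Fact (Nat.Prime 3) := ⟨Nat.prime_three⟩
  haveI h2f : Fact (Nat.Prime 2) := ⟨Nat.prime_two⟩
  haveI hpf : Fact p.Prime := ⟨hp⟩
  have hnd3 : ¬ 3 ∣ p ^ a * 2 ^ b := by
    intro h
    rcases Nat.prime_three.dvd_mul.1 h with h | h
    · exact hp3 ((Nat.prime_dvd_prime_iff_eq Nat.prime_three hp).1 (Nat.prime_three.dvd_of_dvd_pow h)).symm
    · exact absurd (Nat.prime_three.dvd_of_dvd_pow h) (by norm_num)
  obtain ⟨P3⟩ : Nonempty (Sylow 3 G) := inferInstance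
  have hP3 : Nat.card (P3 : Subgroup G) = 3 := by
    simpa using Small.card_sylow_of_card_eq (k := 1) (m := p ^ a * 2 ^ b)
      (by rw [hG]; ring) hnd3 P3
  have hS3 : ∀ Q : Sylow 3 G,
      Subgroup.centralizer ((Q : Subgroup G) : Set G) = (Q : Subgroup G) :=
    fun Q => CfsgLib.Blocks.centralizer_sylow_eq hp Nat.prime_two hp2 hp3 (by norm_num)
      (show Nat.card G = p ^ a * 2 ^ b * 3 by rw [hG]; ring) Q
  obtain ⟨S, B, f, hBS, hS2, hS3m, hSd, hBd, hinv, s₁, hs₁, hf₁⟩ :=
    three_data hnc P3 hP3 (by rw [hS3 P3]; exact hP3)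
  -- one of `S, B` is a power of two, the other a power of `p`
  have hsupp : ∀ l : ℕ, l.Prime → ∀ d, d ∣ Nat.card G → ¬ 3 ∣ d → l ∣ d → l = p ∨ l = 2 := by
    intro l hl d hd h3 hld
    have := hld.trans hd
    rw [hG] at this
    rcases hl.dvd_mul.1 this with h | h
    · rcases hl.dvd_mul.1 h with h | h
      · exact absurd ((Nat.prime_dvd_prime_iff_eq hl Nat.prime_three).1 h ▸ hld) h3
      · exact Or.inl ((Nat.prime_dvd_prime_iff_eq hl hp).1 (hl.dvd_of_dvd_pow h))
    · exact Or.inr ((Nat.prime_dvd_prime_iff_eq hl Nat.prime_two).1 (hl.dvd_of_dvd_pow h))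
  have hpows : ∀ d e : ℕ, d ∣ Nat.card G → e ∣ Nat.card G → ¬ 3 ∣ d → ¬ 3 ∣ e → 2 ∣ d → ¬ 2 ∣ e →
      1 < e → Nat.Coprime d e → ∃ i j, 1 ≤ i ∧ e = p ^ i ∧ d = 2 ^ j := by
    intro d e hd he h3d h3e h2d h2e he1 hcop
    have he0 : e ≠ 0 := by omega
    have hd0 : d ≠ 0 := fun h => h3d (h ▸ dvd_zero 3)
    have hep := Nat.eq_prime_pow_of_unique_prime_dvd (p := p) he0 fun {l} hl hle =>
      (hsupp l hl e he h3e hle).resolve_right fun h => h2e (h ▸ hle)
    have hdp := Nat.eq_prime_pow_of_unique_prime_dvd (p := 2) hd0 fun {l} hl hld =>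
      (hsupp l hl d hd h3d hld).resolve_left fun h => by
        obtain ⟨m, hm, hme⟩ := Nat.exists_prime_and_dvd (show e ≠ 1 by omega)
        have hmp : m = p := (hsupp m hm e he h3e hme).resolve_right fun h' => h2e (h' ▸ hme)
        exact hm.not_dvd_one (hcop ▸ Nat.dvd_gcd (hmp ▸ h ▸ hld) hme)
    refine ⟨_, _, ?_, hep, hdp⟩
    by_contra h
    rw [show e.primeFactorsList.length = 0 by omega, pow_zero] at hep
    omega
  have hcop : Nat.Coprime S B := by rw [hBS]; simp
  obtain ⟨i, j, hi, hShape, hSB⟩ : ∃ i j, 1 ≤ i ∧ ((S = p ^ i ∧ B = 2 ^ j) ∨ (B = p ^ i ∧ S = 2 ^ j)) ∧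
      S * B = p ^ i * 2 ^ j := by
    rcases Nat.even_or_odd S with hev | hodd
    · obtain ⟨i, j, hi, h1, h2⟩ := hpows S B hSd hBd (by omega) (by omega) hev.two_dvd
        (by obtain ⟨c, hc⟩ := hev; omega) (by omega) hcop
      exact ⟨i, j, hi, Or.inr ⟨h1, h2⟩, by rw [h1, h2, mul_comm]⟩
    · obtain ⟨i, j, hi, h1, h2⟩ := hpows B S hBd hSd (by omega) (by omega)
        (by obtain ⟨c, hc⟩ := hodd; omega) (by obtain ⟨c, hc⟩ := hodd; omega) (by omega) hcop.symm
      exact ⟨i, j, hi, Or.inl ⟨h1, h2⟩, by rw [h1, h2]⟩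
  have hj2 : 2 ≤ j := by
    have h4 : 4 ≤ 2 ^ j := by rcases hShape with ⟨-, h⟩ | ⟨-, h⟩ <;> omega
    by_contra h
    interval_cases j <;> omega
  have hia : i ≤ a := by
    have hd : p ^ i ∣ p ^ a * (3 * 2 ^ b) := by
      rw [show p ^ a * (3 * 2 ^ b) = Nat.card G by rw [hG]; ring]
      rcases hShape with ⟨h, -⟩ | ⟨h, -⟩
      · exact h ▸ hSd
      · exact h ▸ hBd
    have hcop' : Nat.Coprime (p ^ i) (3 * 2 ^ b) :=
      (Nat.Coprime.mul_right ((Nat.coprime_primes hp Nat.prime_three).2 hp3)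
        (((Nat.coprime_primes hp Nat.prime_two).2 hp2).pow_right b)).pow_left i
    exact (Nat.pow_dvd_pow_iff_le_right hp.one_lt).1 (hcop'.dvd_of_dvd_mul_right hd)
  have h4dvd : 4 ∣ 2 ^ j := (show (4 : ℕ) = 2 ^ 2 by norm_num) ▸ pow_dvd_pow 2 hj2
  have hi1 : i = 1 := by
    by_contra h
    have hi2 : i = 2 := by omega
    subst hi2
    have hpodd : p % 2 = 1 := Nat.odd_iff.1 (hp.odd_of_ne_two hp2)
    have hp1 : p ^ 2 % 4 = 1 := by
      rw [Nat.pow_mod]; rcases (show p % 4 = 1 ∨ p % 4 = 3 by omega) with h | h <;> rw [h]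
    rcases hShape with ⟨h1, h2⟩ | ⟨h1, h2⟩
    · omega
    · -- `p² = 2^j + 1`
      obtain ⟨q, rfl⟩ : ∃ q, p = q + 1 := ⟨p - 1, by have := hp.two_le; omega⟩
      have hq2 := hp.two_le
      have e : q * (q + 2) = 2 ^ j := by rw [sq] at h1; nlinarith
      obtain ⟨u, -, hu⟩ := (Nat.dvd_prime_pow Nat.prime_two).1 (Dvd.intro _ e)
      obtain ⟨w, -, hw⟩ := (Nat.dvd_prime_pow Nat.prime_two).1 (Dvd.intro_left _ e)
      rcases Nat.lt_or_ge u 2 with hu2 | hu2
      · interval_cases u <;> norm_num at hu <;> omega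
      · have h4q : 4 ∣ q := by rw [hu]; exact pow_dvd_pow 2 hu2
        rcases Nat.lt_or_ge w 2 with hw2 | hw2
        · interval_cases w <;> norm_num at hw <;> omega
        · have h4w : 4 ∣ q + 2 := by rw [hw]; exact pow_dvd_pow 2 hw2
          clear * - h4q h4w
          omega
  subst hi1
  rw [pow_one] at hShape hSB
  -- the centraliser of an involution is prime to three
  have hC3 : ∀ t : G, orderOf t = 2 → ¬ 3 ∣ Nat.card (Subgroup.centralizer ({t} : Set G)) := by
    intro t ht h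
    obtain ⟨y, hy⟩ := exists_prime_orderOf_dvd_card' (G := Subgroup.centralizer ({t} : Set G)) 3 h
    rw [← Subgroup.orderOf_coe] at hy
    obtain ⟨Q, hQ, -⟩ := Small.exists_unique_sylow_mem hy fun Q => by
      simpa using Small.card_sylow_of_card_eq (k := 1) (m := p ^ a * 2 ^ b) (by rw [hG]; ring) hnd3 Q
    have hQ3 : Nat.card (Q : Subgroup G) = 3 := by
      simpa using Small.card_sylow_of_card_eq (k := 1) (m := p ^ a * 2 ^ b) (by rw [hG]; ring) hnd3 Q
    have hy1 : (y : G) ≠ 1 := fun e => by rw [e, orderOf_one] at hy; omega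
    have ht' : t ∈ Subgroup.centralizer ((Q : Subgroup G) : Set G) := by
      rw [Small.eq_zpowers_of_mem hQ3 hQ hy1, Subgroup.zpowers_eq_closure,
        Subgroup.centralizer_closure, Subgroup.mem_centralizer_singleton_iff]
      exact (Subgroup.mem_centralizer_singleton_iff.1 y.2).symm
    rw [hS3 Q] at ht'
    have := Subgroup.orderOf_dvd_natCard _ ht'
    rw [ht, hQ3] at this
    omega
  -- the inverting involution
  obtain ⟨a₁, -, -, -, -, heq₁⟩ := hinv s₁ hs₁
  set C₁ := Nat.card (Subgroup.centralizer ({s₁} : Set G)) with hC₁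
  have hC₁0 : C₁ ≠ 0 := Nat.card_pos.ne'
  rw [hf₁, hG] at heq₁
  set w₁ := (a₁ - (S : ℤ)).natAbs with hw₁
  have heq₁' : C₁ ^ 2 * (p * 2 ^ j) = (p ^ a * 2 ^ b) * w₁ ^ 2 := by
    have h : ((C₁ ^ 2 * (S * B) : ℕ) : ℤ) = (((p ^ a * 2 ^ b) * w₁ ^ 2 : ℕ) : ℤ) := by
      push_cast
      rw [hw₁, Int.natAbs_sq]
      push_cast at heq₁
      linarith
    rw [hSB] at h
    exact_mod_cast h
  have hp0 : p ≠ 0 := hp.ne_zero
  have fp := factorization_eq (l := p) hC₁0 (mul_ne_zero hp0 (pow_ne_zero _ two_ne_zero))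
    (mul_ne_zero (pow_ne_zero _ hp0) (pow_ne_zero _ two_ne_zero)) heq₁'
  have f2 := factorization_eq (l := 2) hC₁0 (mul_ne_zero hp0 (pow_ne_zero _ two_ne_zero))
    (mul_ne_zero (pow_ne_zero _ hp0) (pow_ne_zero _ two_ne_zero)) heq₁'
  simp [Nat.factorization_mul, hp0, Nat.factorization_pow, hp.factorization_self,
    Nat.prime_two.factorization_self, Nat.factorization_eq_zero_of_not_dvd
      (show ¬ p ∣ 2 from fun h => hp2 ((Nat.prime_dvd_prime_iff_eq hp Nat.prime_two).1 h)),
    Nat.factorization_eq_zero_of_not_dvd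
      (show ¬ 2 ∣ p from fun h => hp2 ((Nat.prime_dvd_prime_iff_eq Nat.prime_two hp).1 h).symm)]
    at fp f2
  have haone : a = 1 := by omega
  subst haone
  rw [pow_one] at hG
  -- a central involution of a Sylow 2-subgroup
  obtain ⟨P2⟩ : Nonempty (Sylow 2 G) := inferInstance
  have hP2 : Nat.card (P2 : Subgroup G) = 2 ^ b :=
    Small.card_sylow_of_card_eq (k := b) (m := 3 * p) (by rw [hG]; ring)
      (fun h => by rcases Nat.prime_two.dvd_mul.1 h with h | h
                   · omega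
                   · exact hp2 ((Nat.prime_dvd_prime_iff_eq Nat.prime_two hp).1 h).symm) P2
  haveI : Nontrivial (P2 : Subgroup G) := Finite.one_lt_card_iff_nontrivial.1
    (by rw [hP2]; exact Nat.one_lt_two_pow (by omega))
  obtain ⟨z₀, hz₀⟩ : ∃ z : Subgroup.center (P2 : Subgroup G), orderOf z = 2 := by
    refine exists_prime_orderOf_dvd_card' 2 ?_
    have := P2.2.center_nontrivial
    obtain ⟨k, hk⟩ := (P2.2.to_subgroup (Subgroup.center (P2 : Subgroup G))).exists_card_eq
    rw [hk]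
    refine dvd_pow_self 2 fun h0 => ?_
    have := Finite.one_lt_card (α := Subgroup.center (P2 : Subgroup G))
    rw [hk, h0, pow_zero] at this
    omega
  set z : G := ((z₀ : (P2 : Subgroup G)) : G) with hz
  have hz2 : orderOf z = 2 := by rw [hz, Subgroup.orderOf_coe, Subgroup.orderOf_coe]; exact hz₀
  set Cz := Nat.card (Subgroup.centralizer ({z} : Set G)) with hCzdef
  have hSp : ∀ Q : Sylow p G,
      Subgroup.centralizer ((Q : Subgroup G) : Set G) = (Q : Subgroup G) :=
    fun Q => CfsgLib.Blocks.centralizer_sylow_eq Nat.prime_three Nat.prime_two (by norm_num)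
      hp3.symm hp2.symm (show Nat.card G = 3 ^ 1 * 2 ^ b * p by rw [hG]; ring) Q
  have hQp : ∀ Q : Sylow p G, Nat.card (Q : Subgroup G) = p := fun Q => by
    simpa using Small.card_sylow_of_card_eq (k := 1) (m := 3 * 2 ^ b) (by rw [hG]; ring)
      (fun h => by
        rcases hp.dvd_mul.1 h with h | h
        · exact hp3 ((Nat.prime_dvd_prime_iff_eq hp Nat.prime_three).1 h)
        · exact hp2 ((Nat.prime_dvd_prime_iff_eq hp Nat.prime_two).1 (hp.dvd_of_dvd_pow h))) Q
  have hCp : ¬ p ∣ Cz := by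
    intro h
    obtain ⟨y, hy⟩ := exists_prime_orderOf_dvd_card' (G := Subgroup.centralizer ({z} : Set G)) p h
    rw [← Subgroup.orderOf_coe] at hy
    obtain ⟨Q, hQ, -⟩ := Small.exists_unique_sylow_mem hy hQp
    have hy1 : (y : G) ≠ 1 := fun e => hp.ne_one (by rw [← hy, e, orderOf_one])
    have ht' : z ∈ Subgroup.centralizer ((Q : Subgroup G) : Set G) := by
      rw [Small.eq_zpowers_of_mem (hQp Q) hQ hy1, Subgroup.zpowers_eq_closure,
        Subgroup.centralizer_closure, Subgroup.mem_centralizer_singleton_iff]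
      exact (Subgroup.mem_centralizer_singleton_iff.1 y.2).symm
    rw [hSp Q] at ht'
    have := Subgroup.orderOf_dvd_natCard _ ht'
    rw [hz2, hQp Q] at this
    exact hp2 ((Nat.prime_dvd_prime_iff_eq Nat.prime_two hp).1 this).symm
  have hCz : Cz = 2 ^ b := by
    refine Nat.dvd_antisymm ?_ ?_
    · have h : Cz ∣ (3 * p) * 2 ^ b := hG ▸ Subgroup.card_subgroup_dvd_card _
      refine Nat.Coprime.dvd_of_dvd_mul_left ?_ h
      exact Nat.Coprime.mul_right ((Nat.prime_three.coprime_iff_not_dvd.2 (hC3 z hz2)).symm)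
        ((hp.coprime_iff_not_dvd.2 hCp).symm)
    · rw [← hP2, hCzdef]
      refine Subgroup.card_dvd_of_le fun y hy => Subgroup.mem_centralizer_singleton_iff.2 ?_
      exact congrArg Subtype.val (Subgroup.mem_center_iff.1 z₀.2 ⟨y, hy⟩)
  obtain ⟨az, hl1, hr1, hl2, hr2, heqz⟩ := hinv z hz2
  rw [← hCzdef, hCz, hG] at heqz
  set wz := (az - (S : ℤ)).natAbs with hwz
  have hwz0 : 0 < wz ∧ wz < 2 ^ (j + 1) := by
    rw [pow_succ]
    rcases hShape with ⟨h1, h2⟩ | ⟨h1, h2⟩ <;> omega
  have heqz' : f z * 2 ^ (b + j) = 3 * wz ^ 2 := by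
    have h : ((f z * 2 ^ (b + j) * (p * 2 ^ b) : ℕ) : ℤ) = ((3 * wz ^ 2 * (p * 2 ^ b) : ℕ) : ℤ) := by
      have e : ((S : ℤ) * B) = (p : ℤ) * 2 ^ j := by exact_mod_cast hSB
      push_cast
      rw [hwz, Int.natAbs_sq, pow_add]
      push_cast at heqz
      linear_combination heqz - (f z : ℤ) * ((2 : ℤ) ^ b) ^ 2 * e
    exact Nat.eq_of_mul_eq_mul_right (Nat.mul_pos hp.pos (pow_pos Nat.two_pos b)) (by exact_mod_cast h)
  have hbj1 : b ≤ j + 1 := by
    have hd : 2 ^ (b + j) ∣ wz ^ 2 :=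
      Nat.Coprime.dvd_of_dvd_mul_left (((Nat.coprime_primes Nat.prime_two Nat.prime_three).2
        (by norm_num)).pow_left _) ⟨f z, by rw [← heqz', mul_comm]⟩
    have h1 := Nat.le_of_dvd (pow_pos hwz0.1 2) hd
    have h2 : wz ^ 2 < 2 ^ (2 * (j + 1)) := by
      rw [mul_comm, pow_mul]; exact Nat.pow_lt_pow_left hwz0.2 (by norm_num)
    have := (Nat.pow_lt_pow_iff_right (by norm_num : 1 < 2)).1 (h1.trans_lt h2)
    omega
  have hbj2 : j ≤ b := by
    have hd : 2 ^ j ∣ (3 * p) * 2 ^ b := by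
      rw [← hG]
      rcases hShape with ⟨-, h⟩ | ⟨-, h⟩
      · exact h ▸ hBd
      · exact h ▸ hSd
    exact (Nat.pow_dvd_pow_iff_le_right (by norm_num)).1 (Nat.Coprime.dvd_of_dvd_mul_left
      ((Nat.Coprime.mul_right ((Nat.coprime_primes Nat.prime_two Nat.prime_three).2 (by norm_num))
        ((Nat.coprime_primes Nat.prime_two hp).2 hp2.symm)).pow_left j) hd)
  obtain rfl : b = j := by omega
  -- the Sylow `p`-subgroups
  obtain ⟨Q⟩ : Nonempty (Sylow p G) := inferInstance
  obtain ⟨e, he1, hed, -, heN, hen⟩ := Small.sylow_prime_order_data hnc Q (hQp Q)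
  rw [hSp Q, hQp Q, hG] at hen
  have hne : e * Nat.card (Sylow p G) = 3 * 2 ^ b := by
    refine Nat.eq_of_mul_eq_mul_left hp.pos ?_
    rw [← mul_assoc, hen]
    ring
  have hnmod : Nat.card (Sylow p G) % p = 1 := by
    have h := card_sylow_modEq_one p G
    rwa [Nat.ModEq, Nat.one_mod_eq_one.2 hp.ne_one] at h
  have hn1 : Nat.card (Sylow p G) ≠ 1 := by
    intro h
    have := Small.one_lt_card_sylow (p := p) hnc (by rw [hG]; exact ⟨3 * 2 ^ b, by ring⟩)
    omega
  obtain ⟨n, hn⟩ : ∃ n, Nat.card (Sylow p G) = n := ⟨_, rfl⟩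
  rw [hn] at hne hnmod hn1
  have h2n : 2 * n ≤ 3 * 2 ^ b := hne ▸ Nat.mul_le_mul_right n he1
  obtain ⟨k, hk⟩ : ∃ k, n = p * k + 1 := ⟨n / p, by rw [← hnmod, Nat.div_add_mod]⟩
  have hk0 : k ≠ 0 := fun h => hn1 (by rw [hk, h, mul_zero, zero_add])
  have hp5 : 5 ≤ p := by
    have := hp.two_le
    rcases (show p = 4 ∨ 5 ≤ p by omega) with rfl | h
    · exact absurd hp (by norm_num)
    · exact h
  have hk1 : k = 1 := by
    by_contra h
    have : p * 2 ≤ p * k := Nat.mul_le_mul_left p (by omega)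
    rcases hShape with ⟨h1, h2⟩ | ⟨h1, h2⟩ <;> omega
  rw [hk1, mul_one] at hk
  rcases hShape with ⟨h1, h2⟩ | ⟨h1, h2⟩
  · -- `2^b = p + 1`
    have hp1 : p + 1 = 2 ^ b := by omega
    have he3 : e = 3 := by
      rw [hk, hp1] at hne
      exact Nat.eq_of_mul_eq_mul_right (by positivity) hne
    rcases Nat.lt_or_ge b 5 with hb5 | hb5
    · interval_cases b
      · omega
      · right
        obtain rfl : p = 7 := by omega
        rw [hG]; norm_num
      · obtain rfl : p = 15 := by omega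
        exact absurd hp (by norm_num)
    · exfalso
      refine mersenne_false hnc hb5 hp1 hG Q (hQp Q) ?_ (he3 ▸ hed)
      have hrel := Small.card_centralizer_mul_relIndex (Q : Subgroup G)
      rw [← heN] at hrel
      rw [Nat.eq_of_mul_eq_mul_left Nat.card_pos hrel, he3]
  · -- `2^b = p - 1`
    left
    obtain ⟨c, rfl⟩ : ∃ c, b = c + 1 := ⟨b - 1, by omega⟩
    rw [pow_succ] at h2 hne
    have hd : 2 ^ c + 1 ∣ 2 ^ c * 3 := by
      refine ⟨e, ?_⟩
      have : n = 2 * (2 ^ c + 1) := by omega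
      rw [this] at hne
      linarith
    have h3 : 2 ^ c + 1 ∣ 3 := by
      refine Nat.Coprime.dvd_of_dvd_mul_left ?_ hd
      simp
    have := Nat.le_of_dvd (by norm_num) h3
    have hc1 : c = 1 := by
      rcases Nat.lt_or_ge c 2 with h | h
      · omega
      · have : 2 ^ 2 ≤ 2 ^ c := Nat.pow_le_pow_right (by norm_num) h
        omega
    subst hc1
    obtain rfl : p = 5 := by omega
    rw [hG]; norm_num

end CfsgLib.PQOrders
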