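import Cfsg.Agent.Lib.Order7920.PrimeSection
import Cfsg.Agent.Lib.Blocks.PrincipalDegree
import Cfsg.Agent.Lib.Blocks.Knorr
import Cfsg.Agent.Lib.Small.Basic
import Cfsg.Agent.S4441
import Cfsg.Agent.S4503

/-!
# Simple groups of order `p · r · 2^b`

The degree equation of the principal `r`-block for the larger prime `r` forces `p = 3`.
-/

set_option autoImplicit false
set_option linter.style.haveILetI false
set_option linter.unusedSectionVars false

noncomputable section

open Cfsg CfsgLib.Characters CfsgLib.CharCorr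

namespace CfsgLib.PQOrders

universe u

/-- `2 p² < 2^p` from `p = 7` on. -/
theorem two_sq_lt_two_pow : ∀ {p : ℕ}, 7 ≤ p → 2 * p * p < 2 ^ p := by
  intro p hp
  induction p, hp using Nat.le_induction with
  | base => norm_num
  | succ n hn ih => rw [pow_succ]; nlinarith

/-- With `r = 2p + 1` prime, a power of two congruent to a sign modulo `r` has exponent divisible
by `p`. -/
theorem dvd_exp_of_congr {p r k : ℕ} (hp : p.Prime) (hr : r.Prime) (h3 : r ≠ 3) (hr2 : r ≠ 2)
    (hrp : r = 2 * p + 1) {σ : ℤ} (hσ : σ = 1 ∨ σ = -1) (h : (r : ℤ) ∣ 2 ^ k - σ) : p ∣ k := by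
  haveI : Fact r.Prime := ⟨hr⟩
  have h2 : (2 : ZMod r) ≠ 0 := by
    intro h0
    have : r ∣ 2 := (ZMod.natCast_eq_zero_iff 2 r).1 (by exact_mod_cast h0)
    exact hr2 ((Nat.prime_dvd_prime_iff_eq hr Nat.prime_two).1 this)
  have hk : (2 : ZMod r) ^ k = (σ : ZMod r) := by
    have := (ZMod.intCast_eq_intCast_iff_dvd_sub σ (2 ^ k) r).2 h
    push_cast at this
    exact this.symm
  have hk2 : (2 : ZMod r) ^ (2 * k) = 1 := by
    rw [mul_comm, pow_mul, hk]
    rcases hσ with rfl | rfl <;> simp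
  have hfer : (2 : ZMod r) ^ (2 * p) = 1 := by
    rw [show 2 * p = r - 1 by omega]
    exact ZMod.pow_card_sub_one_eq_one h2
  by_contra hpk
  have hg : Nat.gcd (2 * k) (2 * p) = 2 := by
    rw [Nat.gcd_mul_left, Nat.gcd_comm, (hp.coprime_iff_not_dvd.2 hpk), mul_one]
  have h4 : (2 : ZMod r) ^ 2 = 1 := hg ▸ pow_gcd_eq_one.2 ⟨hk2, hfer⟩
  have h5 : ((3 : ℕ) : ZMod r) = 0 := by
    push_cast
    linear_combination h4
  exact h3 ((Nat.prime_dvd_prime_iff_eq hr Nat.prime_three).1
    ((ZMod.natCast_eq_zero_iff 3 r).1 h5))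

variable {G : Type u} [Group G] [Fintype G] [IsSimpleGroup G]

open scoped Classical in
/-- In a simple group of order `p r 2^b` with odd primes `p < r`, the smaller one is three. -/
theorem smaller_eq_three (hnc : ¬ IsMulCommutative G) {p r b : ℕ} (hp : p.Prime) (hr : r.Prime)
    (hp2 : p ≠ 2) (hlt : p < r) (hG : Nat.card G = p * r * 2 ^ b) : p = 3 := by
  haveI : Fact r.Prime := ⟨hr⟩
  have hp3 := hp.two_le
  have hpodd := Nat.odd_iff.1 (hp.odd_of_ne_two hp2)
  have hr2 : r ≠ 2 := by omega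
  have hrodd := Nat.odd_iff.1 (hr.odd_of_ne_two hr2)
  have hrd : r ∣ Nat.card G := ⟨p * 2 ^ b, by rw [hG]; ring⟩
  have hsq : ¬ r ^ 2 ∣ Nat.card G := by
    intro h
    rw [hG, sq, mul_comm p r, mul_assoc] at h
    rcases hr.dvd_mul.1 (Nat.dvd_of_mul_dvd_mul_left hr.pos h) with h | h
    · exact absurd ((Nat.prime_dvd_prime_iff_eq hr hp).1 h) (by omega)
    · exact hr2 ((Nat.prime_dvd_prime_iff_eq hr Nat.prime_two).1 (hr.dvd_of_dvd_pow h))
  obtain ⟨P⟩ : Nonempty (Sylow r G) := inferInstance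
  have hP : Nat.card (P : Subgroup G) = r := by
    simpa using Small.card_sylow_of_card_eq (k := 1) (m := p * 2 ^ b) (by rw [hG]; ring)
      (fun h => hsq (by
        rw [show Nat.card G = r * (p * 2 ^ b) by rw [hG]; ring, sq]
        exact Nat.mul_dvd_mul_left r h)) P
  have hC : Subgroup.centralizer ((P : Subgroup G) : Set G) = (P : Subgroup G) :=
    CfsgLib.Blocks.centralizer_sylow_eq hp Nat.prime_two hp2 (by omega) (Ne.symm hr2)
      (show Nat.card G = p ^ 1 * 2 ^ b * r by rw [hG]; ring) P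
  have hrel := Small.card_centralizer_mul_relIndex (P : Subgroup G)
  set e := (Subgroup.centralizer ((P : Subgroup G) : Set G)).relIndex
    (Subgroup.normalizer ((P : Subgroup G) : Set G)) with he
  have hed : e ∣ r - 1 := Small.relIndex_centralizer_normalizer_dvd_of_prime hP
  have he0 : 0 < e := Nat.pos_of_dvd_of_pos hed (by omega)
  have he1 : e ≠ 1 := fun h =>
    Small.not_normalizer_le_centralizer hnc hrd P (Subgroup.relIndex_eq_one.1 h)
  have her : e < r := lt_of_le_of_lt (Nat.le_of_dvd (by omega) hed) (by omega)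
  have heG : e ∣ p * 2 ^ b := by
    rw [hC, hP] at hrel
    have h : r * e ∣ r * (p * 2 ^ b) := by
      rw [hrel, show r * (p * 2 ^ b) = Nat.card G by rw [hG]; ring]
      exact Subgroup.card_subgroup_dvd_card _
    exact Nat.dvd_of_mul_dvd_mul_left hr.pos h
  obtain ⟨M, hM⟩ := CfsgLib.Blocks.exists_isPModular (p := r)
  obtain ⟨X, Y, hXY, hdisj, hXc, hYc, εX, ε, hX, hε, hYd, hYeq, hrelY⟩ :=
    Cfsg.Agent.S4441.result r M hM hr2 P hP e rfl
  have hpr1 : ∀ g : G, ((principalIrr G : IrrCharacter G) : G → ℂ) g = 1 := fun g => by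
    simp [principalIrr]
  have hd1 : charDegree ((principalIrr G : IrrCharacter G) : G → ℂ) = 1 := by
    have h := irr_one_eq_charDegree (principalIrr G)
    rw [hpr1] at h
    exact_mod_cast h.symm
  have hdd : ∀ χ : IrrCharacter G, χ ≠ principalIrr G →
      1 < charDegree (χ : G → ℂ) ∧ charDegree (χ : G → ℂ) ∣ p * r * 2 ^ b := by
    intro χ hχ
    refine ⟨?_, hG ▸ charDegree_irr_dvd_card χ⟩
    have := Chars17.irrDegree_pos χ
    by_contra h
    exact hχ (Order7920.eq_principal_of_charDegree_one hnc (by omega))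
  have hoddd : ∀ χ : IrrCharacter G, χ ≠ principalIrr G → ¬ r ∣ charDegree (χ : G → ℂ) →
      charDegree (χ : G → ℂ) % 2 = 1 → charDegree (χ : G → ℂ) = p := by
    intro χ hχ hrχ h2
    obtain ⟨h1, hd⟩ := hdd χ hχ
    have h := (Nat.Coprime.pow_right b (Nat.coprime_two_right.2 (Nat.odd_iff.2 h2))).dvd_of_dvd_mul_right hd
    rw [mul_comm] at h
    have h' := ((hr.coprime_iff_not_dvd.2 hrχ).symm).dvd_of_dvd_mul_left h
    exact ((Nat.dvd_prime hp).1 h').resolve_left (by omega)
  have hXr : ∀ χ ∈ X, ¬ r ∣ charDegree (χ : G → ℂ) := by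
    intro χ hχ h
    obtain ⟨hs, hc, -⟩ := hX χ hχ
    obtain ⟨u, hu⟩ := h
    have h1 : (r : ℤ) ∣ εX χ := by
      have h2 := hc.dvd
      rw [hu] at h2
      have h3 : (r : ℤ) ∣ εX χ - (r : ℤ) * u := by push_cast at h2; exact h2
      simpa using dvd_add h3 (dvd_mul_right (r : ℤ) u)
    have h4 : r ∣ 1 := by
      rcases hs with hs | hs <;> rw [hs] at h1
      · exact_mod_cast h1
      · exact_mod_cast (dvd_neg.1 h1)
    exact hr.not_dvd_one h4
  have hXnp : ∀ χ ∈ X, charDegree (χ : G → ℂ) ≠ p := by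
    intro χ hχ h
    obtain ⟨hs, hc, -⟩ := hX χ hχ
    have h1 := hc.dvd
    rw [h] at h1
    rcases hs with hs | hs <;> rw [hs] at h1
    · have h2 : (r : ℤ) ∣ (((p - 1 : ℕ) : ℤ)) := by
        rw [Nat.cast_sub (by omega), Nat.cast_one, ← dvd_neg, neg_sub]; exact h1
      have := Nat.le_of_dvd (by omega) (Int.natCast_dvd_natCast.1 h2)
      omega
    · have h2 : (r : ℤ) ∣ (((p + 1 : ℕ) : ℤ)) := by
        rw [Nat.cast_add, Nat.cast_one, ← dvd_neg, show -((p : ℤ) + 1) = -1 - p by ring]
        exact h1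
      have := Nat.le_of_dvd (by omega) (Int.natCast_dvd_natCast.1 h2)
      omega
  have hXeven : ∀ χ ∈ X, χ ≠ principalIrr G → charDegree (χ : G → ℂ) % 2 = 0 := by
    intro χ hχ hne
    by_contra h
    exact hXnp χ hχ (hoddd χ hne (hXr χ hχ) (by omega))
  -- the degree equation
  have ht1 : 1 ≤ (r - 1) / e :=
    (Nat.le_div_iff_mul_le he0).2 (by have := Nat.le_of_dvd (by omega) hed; omega)
  obtain ⟨θ, hθ⟩ : Y.Nonempty := by
    by_contra h
    rw [Set.not_nonempty_iff_eq_empty] at h
    rw [h] at hYc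
    simp at hYc
    omega
  have hXcard : X.toFinset.card = e := by
    rw [← hXc, Set.toFinset_card, Nat.card_eq_fintype_card]
  have hrelint : ε * (charDegree (θ : G → ℂ) : ℤ) =
      ∑ χ ∈ X.toFinset, εX χ * (charDegree (χ : G → ℂ) : ℤ) := by
    have h := hrelY θ hθ 1 (by rw [orderOf_one]; exact hr.not_dvd_one)
    rw [finsum_mem_eq_toFinset_sum, irr_one_eq_charDegree,
      Finset.sum_congr rfl ((fun χ _ => by rw [irr_one_eq_charDegree]; push_cast; rfl) :
        ∀ χ ∈ X.toFinset, (εX χ : ℂ) * (χ : G → ℂ) 1 =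
          ((εX χ * (charDegree (χ : G → ℂ) : ℤ) : ℤ) : ℂ))] at h
    exact_mod_cast h
  have hprX : principalIrr G ∈ X := by
    have hpr : principalIrr G ∈ X ∪ Y := by rw [← hXY]; exact CfsgLib.Blocks.principalIrr_mem hM
    refine hpr.resolve_right fun hY => ?_
    have hθ1 : charDegree (θ : G → ℂ) = 1 := by
      have h := hYeq θ hθ _ hY 1 (by rw [orderOf_one]; exact hr.not_dvd_one)
      rw [irr_one_eq_charDegree, hpr1] at h
      exact_mod_cast h
    have hev : ∀ χ ∈ X.toFinset, (2 : ℤ) ∣ εX χ * (charDegree (χ : G → ℂ) : ℤ) := by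
      intro χ hχ
      rw [Set.mem_toFinset] at hχ
      refine dvd_mul_of_dvd_right ?_ _
      have := hXeven χ hχ fun h => Set.disjoint_left.1 hdisj hχ (h ▸ hY)
      omega
    have := Finset.dvd_sum hev
    rw [← hrelint, hθ1] at this
    rcases hε with h | h <;> rw [h] at this <;> norm_num at this
  have hεpr : εX (principalIrr G) = 1 := by
    obtain ⟨hs, hc, -⟩ := hX _ hprX
    rcases hs with hs | hs
    · exact hs
    · exfalso
      have h1 := hc.dvd
      rw [hs, hd1] at h1
      have h2 : (r : ℤ) ∣ ((2 : ℕ) : ℤ) := by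
        rw [← dvd_neg]; simpa using h1
      exact hr2 ((Nat.prime_dvd_prime_iff_eq hr Nat.prime_two).1 (Int.natCast_dvd_natCast.1 h2))
  set S := X.toFinset.erase (principalIrr G) with hS
  have hScard : S.card = e - 1 := by
    rw [hS, Finset.card_erase_of_mem (Set.mem_toFinset.2 hprX), hXcard]
  have hsplit : ε * (charDegree (θ : G → ℂ) : ℤ) =
      1 + ∑ χ ∈ S, εX χ * (charDegree (χ : G → ℂ) : ℤ) := by
    rw [hrelint, ← Finset.add_sum_erase _ _ (Set.mem_toFinset.2 hprX), hεpr, hd1]
    simp [hS]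
  have hθne : θ ≠ principalIrr G := fun h => Set.disjoint_left.1 hdisj hprX (h ▸ hθ)
  have hθp : charDegree (θ : G → ℂ) = p := by
    refine hoddd θ hθne ?_ ?_
    · rintro ⟨u, hu⟩
      have h1 := (hYd θ hθ).dvd
      rw [hu] at h1
      have h2 : (r : ℤ) ∣ ε * (e : ℤ) := by
        have h3 : (r : ℤ) ∣ ε * (e : ℤ) - (r : ℤ) * u := by push_cast at h1; exact h1
        simpa using dvd_add h3 (dvd_mul_right (r : ℤ) u)
      have h4 : r ∣ e := by
        rcases hε with h | h <;> rw [h] at h2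
        · rw [one_mul] at h2; exact Int.natCast_dvd_natCast.1 h2
        · rw [neg_mul, one_mul, dvd_neg] at h2; exact Int.natCast_dvd_natCast.1 h2
      have := Nat.le_of_dvd he0 h4
      omega
    · have hev : ∀ χ ∈ S, (2 : ℤ) ∣ εX χ * (charDegree (χ : G → ℂ) : ℤ) := by
        intro χ hχ
        obtain ⟨hne, hχX⟩ := Finset.mem_erase.1 hχ
        refine dvd_mul_of_dvd_right ?_ _
        have := hXeven χ (Set.mem_toFinset.1 hχX) hne
        omega
      have h2 := Finset.dvd_sum hev
      rcases hε with h | h <;> rw [h] at hsplit <;> omega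
  rw [hθp] at hsplit
  -- the residue of the exceptional sign
  have hcases : (ε = 1 ∧ p = e) ∨ (ε = -1 ∧ p + e = r) := by
    have hmodr : ∀ χ ∈ X.toFinset, (r : ℤ) ∣ εX χ * (charDegree (χ : G → ℂ) : ℤ) - 1 := by
      intro χ hχ
      rw [Set.mem_toFinset] at hχ
      obtain ⟨hs, hc, -⟩ := hX χ hχ
      have h1 := hc.dvd
      rcases hs with hs | hs <;> rw [hs] at h1 ⊢
      · rw [one_mul, ← dvd_neg, neg_sub]; exact h1
      · convert h1 using 1
        ring
    have h := Finset.dvd_sum hmodr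
    rw [Finset.sum_sub_distrib, Finset.sum_const, hXcard, ← hrelint, hθp, nsmul_eq_mul, mul_one] at h
    obtain ⟨u, hu⟩ := h
    rcases hε with h1 | h1 <;> rw [h1] at hu
    · left
      refine ⟨h1, ?_⟩
      have hlt1 : (r : ℤ) * u < (r : ℤ) * 1 := by omega
      have hgt1 : (r : ℤ) * (-1) < (r : ℤ) * u := by omega
      have hu1 := lt_of_mul_lt_mul_left hlt1 (by omega)
      have hu2 := lt_of_mul_lt_mul_left hgt1 (by omega)
      obtain rfl : u = 0 := by omega
      omega
    · right
      refine ⟨h1, ?_⟩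
      have hlt1 : (r : ℤ) * u < (r : ℤ) * 0 := by omega
      have hgt1 : (r : ℤ) * (-2) < (r : ℤ) * u := by omega
      have hu1 := lt_of_mul_lt_mul_left hlt1 (by omega)
      have hu2 := lt_of_mul_lt_mul_left hgt1 (by omega)
      obtain rfl : u = -1 := by omega
      omega
  -- the shape of the remaining degrees
  have hterm : ∀ χ ∈ S, (εX χ = 1 ∨ εX χ = -1) ∧
      (r : ℤ) ∣ (charDegree (χ : G → ℂ) : ℤ) - εX χ ∧
      ∃ k, 1 ≤ k ∧ (charDegree (χ : G → ℂ) = 2 ^ k ∨ charDegree (χ : G → ℂ) = p * 2 ^ k) := by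
    intro χ hχ
    obtain ⟨hne, hχX⟩ := Finset.mem_erase.1 hχ
    rw [Set.mem_toFinset] at hχX
    obtain ⟨hs, hc, -⟩ := hX χ hχX
    obtain ⟨h1, hd⟩ := hdd χ hne
    refine ⟨hs, by rw [← dvd_neg, neg_sub]; exact hc.dvd, ?_⟩
    rw [show p * r * 2 ^ b = r * (p * 2 ^ b) by ring] at hd
    obtain ⟨a, c, ha, hc2, hac⟩ := Nat.dvd_mul.1
      (((hr.coprime_iff_not_dvd.2 (hXr χ hχX)).symm).dvd_of_dvd_mul_left hd)
    obtain ⟨k, -, rfl⟩ := (Nat.dvd_prime_pow Nat.prime_two).1 hc2
    have hev := hXeven χ hχX hne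
    refine ⟨k, ?_, ?_⟩
    · by_contra hk
      obtain rfl : k = 0 := by omega
      rw [pow_zero, mul_one] at hac
      rcases (Nat.dvd_prime hp).1 ha with h | h <;> omega
    · rcases (Nat.dvd_prime hp).1 ha with h | h <;> subst h
      · left; rw [← hac, one_mul]
      · right; exact hac.symm
  by_contra hne3
  have hp5 : 5 ≤ p := by
    rcases (show p = 4 ∨ 5 ≤ p by omega) with rfl | h
    · exact absurd hp (by norm_num)
    · exact h
  rcases hcases with ⟨h1, hpe⟩ | ⟨h1, hre⟩
  · -- a faithful character of degree `p = e`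
    rw [h1, one_mul] at hsplit
    have hb3 : r ≤ 2 * p + 1 := by
      rw [← hθp]
      refine Cfsg.Agent.S4503.result r hr hrd hsq ?_ (θ : G → ℂ) (irr_isCharacter θ)
        fun g hg => Order7920.eq_one_of_apply_eq_one hθne hg
      intro H hH hc
      rcases hH.eq_bot_or_eq_top with h | h <;> subst h
      · rw [Subgroup.card_bot] at hc; exact hr.ne_one hc.symm
      · rw [Subgroup.card_top, hG] at hc
        have h2 : p * r * 2 ^ b = 1 * r * 1 := by rw [one_mul, mul_one]; exact hc
        have : p ∣ r := ⟨r * 2 ^ b, by rw [← mul_assoc]; exact hc.symm⟩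
        exact absurd ((Nat.prime_dvd_prime_iff_eq hp hr).1 this) (by omega)
    have hr2p : r = 2 * p + 1 := by
      obtain ⟨m, hm⟩ := hpe ▸ hed
      rcases (show m = 0 ∨ m = 1 ∨ 2 ≤ m by omega) with rfl | rfl | h
      · omega
      · omega
      · have : p * 2 ≤ p * m := Nat.mul_le_mul_left p h
        omega
    have hr3 : r ≠ 3 := by omega
    have hs : ∀ χ ∈ S, ∃ s : ℤ, -1 ≤ s ∧ s ≤ 1 ∧
        (2 : ℤ) ^ p ∣ εX χ * (charDegree (χ : G → ℂ) : ℤ) - 2 * p * s := by
      intro χ hχ
      obtain ⟨hσ, hd, k, hk, hk' | hk'⟩ := hterm χ hχ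
      · refine ⟨0, by norm_num, by norm_num, ?_⟩
        rw [hk'] at hd ⊢
        push_cast at hd ⊢
        have hpk := dvd_exp_of_congr hp hr hr3 hr2 hr2p hσ hd
        rw [mul_zero, sub_zero]
        exact dvd_mul_of_dvd_right (pow_dvd_pow 2 (Nat.le_of_dvd hk hpk)) _
      · rw [hk'] at hd ⊢
        push_cast at hd ⊢
        obtain ⟨l, rfl⟩ : ∃ l, k = l + 1 := ⟨k - 1, by omega⟩
        have hd' : (r : ℤ) ∣ 2 ^ l - -εX χ := by
          obtain ⟨v, hv⟩ := hd
          refine ⟨2 ^ l - v, ?_⟩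
          rw [hr2p] at hv ⊢
          push_cast at hv ⊢
          rw [pow_succ] at hv
          linear_combination -hv
        have hσ' : -εX χ = 1 ∨ -εX χ = -1 := by omega
        have hpl := dvd_exp_of_congr hp hr hr3 hr2 hr2p hσ' hd'
        rcases Nat.eq_zero_or_pos l with rfl | hl
        · exact ⟨εX χ, by omega, by omega, ⟨0, by ring⟩⟩
        · refine ⟨0, by norm_num, by norm_num, ?_⟩
          rw [mul_zero, sub_zero]
          exact dvd_mul_of_dvd_right (dvd_mul_of_dvd_right
            (pow_dvd_pow 2 (le_trans (Nat.le_of_dvd hl hpl) (Nat.le_succ l))) _) _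
    choose! s hs1 hs2 hsd using hs
    have hdvd := Finset.dvd_sum hsd
    rw [Finset.sum_sub_distrib, ← Finset.mul_sum] at hdvd
    obtain ⟨z, hz⟩ := hdvd
    have hup : ∑ χ ∈ S, s χ ≤ (S.card : ℤ) := by
      have := Finset.sum_le_card_nsmul S s 1 hs2
      simpa using this
    have hdown : -(S.card : ℤ) ≤ ∑ χ ∈ S, s χ := by
      have := Finset.card_nsmul_le_sum S s (-1) hs1
      simpa using this
    rw [hScard, Nat.cast_sub (by omega), Nat.cast_one, ← hpe] at hup hdown
    set W := ∑ χ ∈ S, s χ with hW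
    set T := ∑ χ ∈ S, εX χ * (charDegree (χ : G → ℂ) : ℤ) with hT
    rcases (show p = 5 ∨ p = 6 ∨ 7 ≤ p by omega) with h | h | h
    · subst h
      norm_num at hz hup hdown hsplit
      omega
    · subst h; exact absurd hp (by norm_num)
    · have hbig : (2 * p * p : ℤ) < 2 ^ p := by exact_mod_cast two_sq_lt_two_pow h
      have hz0 : z = 0 := by
        have hb1 : (2 : ℤ) ^ p * z < 2 ^ p * 1 := by
          rw [← hz, mul_one]; nlinarith
        have hb2 : (2 : ℤ) ^ p * (-1) < 2 ^ p * z := by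
          rw [← hz]; nlinarith
        have := lt_of_mul_lt_mul_left hb1 (by positivity)
        have := lt_of_mul_lt_mul_left hb2 (by positivity)
        omega
      rw [hz0, mul_zero] at hz
      have hd : (p : ℤ) ∣ 1 := ⟨1 - 2 * W, by linear_combination -hsplit - hz⟩
      exact hp.not_dvd_one (by exact_mod_cast hd)
  · -- a faithful character of degree `p = r - e`
    rw [h1] at hsplit
    have hpe : ¬ p ∣ e := fun h => by
      have h' : p ∣ r := hre ▸ dvd_add dvd_rfl h
      exact absurd ((Nat.prime_dvd_prime_iff_eq hp hr).1 h') (by omega)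
    obtain ⟨j, -, hej⟩ := (Nat.dvd_prime_pow Nat.prime_two).1
      (((hp.coprime_iff_not_dvd.2 hpe).symm).dvd_of_dvd_mul_left heG)
    have hj : 1 ≤ j := by
      by_contra h
      rw [show j = 0 by omega, pow_zero] at hej
      exact he1 hej
    rcases (show j = 1 ∨ 2 ≤ j by omega) with rfl | hj2
    · norm_num at hej
      obtain ⟨χ, hχ⟩ := Finset.card_eq_one.1 (show S.card = 1 by rw [hScard, hej])
      rw [hχ, Finset.sum_singleton] at hsplit
      obtain ⟨hσ, -, k, hk, hk'⟩ := hterm χ (by rw [hχ]; exact Finset.mem_singleton_self χ)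
      have hdeg : charDegree (χ : G → ℂ) = p + 1 := by
        rcases hσ with h | h <;> rw [h] at hsplit <;> omega
      rcases hk' with hk' | hk'
      · have h2 : 2 ^ k = p + 1 := hk'.symm.trans hdeg
        have h3 : 2 ^ k % 3 ≠ 0 := fun h => absurd
          ((Nat.prime_dvd_prime_iff_eq Nat.prime_three Nat.prime_two).1
            (Nat.prime_three.dvd_of_dvd_pow (Nat.dvd_of_mod_eq_zero h))) (by norm_num)
        rcases (show p % 3 = 0 ∨ r % 3 = 0 by
          rcases (show 2 ^ k % 3 = 1 ∨ 2 ^ k % 3 = 2 by omega) with h | h <;> omega) with h | h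
        · exact hne3 ((Nat.prime_dvd_prime_iff_eq Nat.prime_three hp).1
            (Nat.dvd_of_mod_eq_zero h)).symm
        · have := (Nat.prime_dvd_prime_iff_eq Nat.prime_three hr).1 (Nat.dvd_of_mod_eq_zero h)
          omega
      · have : p ∣ p + 1 := ⟨2 ^ k, by rw [← hk']; exact hdeg.symm⟩
        exact hp.not_dvd_one ((Nat.dvd_add_right dvd_rfl).1 this)
    · have h4e : 4 ∣ e := hej ▸ (pow_dvd_pow 2 hj2 : 2 ^ 2 ∣ 2 ^ j)
      have hep : e ∣ p - 1 := by
        have h : e ∣ (p - 1) + e := by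
          rw [show (p - 1) + e = r - 1 by omega]; exact hed
        exact (Nat.dvd_add_left dvd_rfl).1 h
      have h4p : 4 ∣ p - 1 := h4e.trans hep
      obtain ⟨χ, hχS, hχ4⟩ : ∃ χ ∈ S, ¬ (4 : ℤ) ∣ εX χ * (charDegree (χ : G → ℂ) : ℤ) := by
        by_contra h
        simp only [not_exists, not_and, not_not] at h
        have := Finset.dvd_sum h
        omega
      obtain ⟨hσ, hd, k, hk, hk'⟩ := hterm χ hχS
      have hk1 : k = 1 := by
        by_contra h
        apply hχ4
        refine dvd_mul_of_dvd_right ?_ _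
        have h4 : (4 : ℕ) ∣ 2 ^ k := (pow_dvd_pow 2 (show 2 ≤ k by omega) : 2 ^ 2 ∣ 2 ^ k)
        rcases hk' with hk' | hk' <;> rw [hk']
        · exact Int.natCast_dvd_natCast.2 h4
        · exact Int.natCast_dvd_natCast.2 (dvd_mul_of_dvd_right h4 p)
      subst hk1
      obtain ⟨v, hv⟩ := hd
      rcases hk' with hk' | hk' <;> rw [hk'] at hv <;> push_cast at hv
      · rcases (show (εX χ = 1) ∨ (εX χ = -1) from hσ) with h | h <;> rw [h] at hv
        · have : (r : ℤ) ∣ 1 := ⟨v, by linarith⟩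
          exact hr.not_dvd_one (by exact_mod_cast this)
        · have : (r : ℤ) ∣ 3 := ⟨v, by linarith⟩
          have := (Nat.prime_dvd_prime_iff_eq hr Nat.prime_three).1 (by exact_mod_cast this)
          omega
      · have h2p : 2 * p = r + 1 ∨ 2 * p + 1 = r := by
          have hlt1 : (r : ℤ) * v < (r : ℤ) * 2 := by omega
          have hgt1 : (r : ℤ) * 0 < (r : ℤ) * v := by omega
          have := lt_of_mul_lt_mul_left hlt1 (by omega)
          have := lt_of_mul_lt_mul_left hgt1 (by omega)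
          obtain rfl : v = 1 := by omega
          omega
        have hle := Nat.le_of_dvd (by omega) hep
        rcases h2p with h | h
        · have he3 : e % 3 ≠ 0 := fun h => absurd
            ((Nat.prime_dvd_prime_iff_eq Nat.prime_three Nat.prime_two).1
              (Nat.prime_three.dvd_of_dvd_pow (hej ▸ Nat.dvd_of_mod_eq_zero h))) (by norm_num)
          have hp1 : p = e + 1 := by omega
          rcases (show p % 3 = 0 ∨ r % 3 = 0 by
            rcases (show e % 3 = 1 ∨ e % 3 = 2 by omega) with h'' | h'' <;> omega) with h' | h'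
          · exact hne3 ((Nat.prime_dvd_prime_iff_eq Nat.prime_three hp).1
              (Nat.dvd_of_mod_eq_zero h')).symm
          · have := (Nat.prime_dvd_prime_iff_eq Nat.prime_three hr).1 (Nat.dvd_of_mod_eq_zero h')
            omega
        · omega

end CfsgLib.PQOrders
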