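import Mathlib

/-!
# Arithmetic of block degrees with two odd prime divisors
-/

set_option autoImplicit false

namespace CfsgLib.PQOrders

/-- The conditions on a degree with value `e` at an involution. -/
structure Good (s t x : ℕ) (e : ℤ) : Prop where
  sgn : e = 1 ∨ e = -1
  gt : 1 < x
  mod : (4 : ℤ) ∣ (x : ℤ) - e
  suppX : ∀ l : ℕ, l.Prime → l ∣ x → l = s ∨ l = t
  suppA : ∀ l : ℕ, l.Prime → (l : ℤ) ∣ (x : ℤ) + e → l = 2 ∨ l = s ∨ l = t

theorem Good.symm {s t x : ℕ} {e : ℤ} (h : Good s t x e) : Good t s x e :=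
  ⟨h.sgn, h.gt, h.mod, fun l hl hd => (h.suppX l hl hd).symm,
    fun l hl hd => (h.suppA l hl hd).imp_right Or.symm⟩

/-- One of `x`, `(x + e)/2` is a power of `s`, the other one of `t`. -/
theorem Good.shape {s t x : ℕ} {e : ℤ} (h : Good s t x e) :
    ∃ A k u : ℕ, 2 * (A : ℤ) = (x : ℤ) + e ∧ 1 ≤ k ∧ (e = 1 → 1 ≤ u) ∧
      ((x = s ^ k ∧ A = t ^ u) ∨ (x = t ^ k ∧ A = s ^ u)) := by
  obtain ⟨c, hc⟩ := h.mod
  have hx := h.gt
  obtain ⟨A, hA⟩ : ∃ A : ℕ, 2 * (A : ℤ) = (x : ℤ) + e := by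
    refine ⟨(2 * c + e).toNat, ?_⟩
    have := h.sgn
    omega
  have hA0 : 1 ≤ A := by have := h.sgn; omega
  have hAodd : ¬ 2 ∣ A := by have := h.sgn; omega
  have hcop : ∀ l : ℕ, l.Prime → l ∣ x → ¬ l ∣ A := by
    intro l hl hlx hlA
    have h1 : (l : ℤ) ∣ (x : ℤ) + e := hA ▸ dvd_mul_of_dvd_right (Int.natCast_dvd_natCast.2 hlA) 2
    have h2 : (l : ℤ) ∣ e := (Int.dvd_add_right (Int.natCast_dvd_natCast.2 hlx)).1 h1
    have h3 : (l : ℤ) ∣ 1 := by
      rcases h.sgn with rfl | rfl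
      · exact h2
      · simpa using h2.neg_right
    exact hl.not_dvd_one (Int.natCast_dvd_natCast.1 (by exact_mod_cast h3))
  obtain ⟨l, hl, hlx⟩ := Nat.exists_prime_and_dvd (show x ≠ 1 by omega)
  rcases eq_or_ne A 1 with hA1 | hA1
  · have h3 : x = 3 := by have := h.sgn; omega
    have he : e ≠ 1 := by omega
    refine ⟨A, 1, 0, hA, le_rfl, fun h' => absurd h' he, ?_⟩
    rw [h3] at hlx ⊢
    have hl3 : l = 3 := (Nat.prime_dvd_prime_iff_eq hl Nat.prime_three).1 hlx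
    rcases h.suppX l hl (h3 ▸ hlx) with h' | h' <;> rw [← h', hl3]
    · exact Or.inl ⟨rfl, by rw [hA1, pow_zero]⟩
    · exact Or.inr ⟨rfl, by rw [hA1, pow_zero]⟩
  · obtain ⟨m, hm, hmA⟩ := Nat.exists_prime_and_dvd hA1
    have hne : l ≠ m := fun h' => hcop l hl hlx (h' ▸ hmA)
    have hAst : ∀ d : ℕ, d.Prime → d ∣ A → d = s ∨ d = t := fun d hd hdA => by
      rcases h.suppA d hd (hA ▸ dvd_mul_of_dvd_right (Int.natCast_dvd_natCast.2 hdA) 2) with h' | h'
      · exact absurd (h' ▸ hdA) hAodd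
      · exact h'
    have hms := hAst m hm hmA
    have hls := h.suppX l hl hlx
    have hxp := Nat.eq_prime_pow_of_unique_prime_dvd (n := x) (p := l) (by omega) fun {d} hd hdx => by
      have h1 := h.suppX d hd hdx
      have hdm : d ≠ m := fun h' => hcop d hd hdx (h' ▸ hmA)
      omega
    have hAp := Nat.eq_prime_pow_of_unique_prime_dvd (n := A) (p := m) (by omega) fun {d} hd hdA => by
      have h1 := hAst d hd hdA
      have hdl : d ≠ l := fun h' => hcop l hl hlx (h' ▸ hdA)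
      omega
    refine ⟨A, x.primeFactorsList.length, A.primeFactorsList.length, hA, ?_, fun _ => ?_, ?_⟩
    · by_contra h0
      rw [hxp, show x.primeFactorsList.length = 0 by omega, pow_zero] at hx
      omega
    · by_contra h0
      rw [hAp, show A.primeFactorsList.length = 0 by omega, pow_zero] at hA1
      exact hA1 rfl
    · rcases hls with h2 | h2 <;> rcases hms with h3 | h3
      · exact absurd (h2.trans h3.symm) hne
      · exact Or.inl ⟨h2 ▸ hxp, h3 ▸ hAp⟩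
      · exact Or.inr ⟨h2 ▸ hxp, h3 ▸ hAp⟩
      · exact absurd (h2.trans h3.symm) hne

/-- `2s^i = s^k + s^l` forces equal exponents. -/
theorem pow_sum {s i k l : ℕ} (hs : s.Prime) (hs2 : s ≠ 2) (h : 2 * s ^ i = s ^ k + s ^ l) :
    k = i ∧ l = i := by
  wlog hkl : k ≤ l generalizing k l with H
  · exact (H (by linarith) (le_of_not_ge hkl)).symm
  have hs3 : 3 ≤ s := by have := hs.two_le; omega
  obtain ⟨d, rfl⟩ := Nat.exists_eq_add_of_le hkl
  rw [pow_add] at h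
  rcases lt_trichotomy i k with hik | rfl | hik
  · exfalso
    have : s ^ i < s ^ k := Nat.pow_lt_pow_right (by omega) hik
    have : s ^ k ≤ s ^ k * s ^ d := Nat.le_mul_of_pos_right _ (pow_pos (by omega) _)
    omega
  · rcases Nat.eq_zero_or_pos d with rfl | hd
    · exact ⟨rfl, rfl⟩
    · exfalso
      have : s ^ i * 3 ≤ s ^ i * s ^ d := Nat.mul_le_mul_left _
        (hs3.trans (Nat.le_self_pow hd.ne' s))
      have : 0 < s ^ i := pow_pos (by omega) _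
      omega
  · exfalso
    obtain ⟨f, rfl⟩ := Nat.exists_eq_add_of_lt hik
    have h0 : 0 < s ^ k := pow_pos (by omega) _
    have h1 : 2 * s ^ (f + 1) = 1 + s ^ d := by
      refine Nat.eq_of_mul_eq_mul_left h0 ?_
      rw [show k + f + 1 = k + (f + 1) by omega, pow_add] at h
      linarith
    have h2 : s ∣ 1 + s ^ d := h1 ▸ dvd_mul_of_dvd_right (dvd_pow_self s (by omega)) 2
    rcases Nat.eq_zero_or_pos d with rfl | hd
    · rw [pow_zero] at h2
      have := Nat.le_of_dvd (by norm_num) h2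
      omega
    · exact hs.not_dvd_one ((Nat.dvd_add_left (dvd_pow_self s hd.ne')).1 h2)

theorem not_both_dvd {s t x k : ℕ} (hs : s.Prime) (ht : t.Prime) (hst : s ≠ t)
    (h : x = s ^ k ∨ x = t ^ k) (h1 : s ∣ x) (h2 : t ∣ x) : False := by
  rcases h with rfl | rfl
  · exact hst ((Nat.prime_dvd_prime_iff_eq ht hs).1 (ht.dvd_of_dvd_pow h2)).symm
  · exact hst ((Nat.prime_dvd_prime_iff_eq hs ht).1 (hs.dvd_of_dvd_pow h1))

theorem not_dvd_succ {s x : ℕ} (hs : s.Prime) (h : s ∣ x) : ¬ s ∣ x + 1 := fun h' =>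
  hs.not_dvd_one ((Nat.dvd_add_right h).1 h')

/-- Two negative signs. -/
theorem pmm {s t x₁ x₂ x₃ : ℕ} (hs : s.Prime) (ht : t.Prime) (hst : s ≠ t) (hs2 : s ≠ 2) (ht2 : t ≠ 2)
    (h₁ : Good s t x₁ 1) (h₂ : Good s t x₂ (-1)) (h₃ : Good s t x₃ (-1))
    (hrel : x₁ + 1 = x₂ + x₃) : x₁ = 5 ∧ x₂ = 3 ∧ x₃ = 3 := by
  wlog hsk : ∃ k : ℕ, 1 ≤ k ∧ x₂ = s ^ k generalizing s t with H
  · obtain ⟨A, k, u, -, hk, -, ⟨hx, -⟩ | ⟨hx, -⟩⟩ := h₂.shape
    · exact absurd ⟨k, hk, hx⟩ hsk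
    · exact H ht hs hst.symm ht2 hs2 h₁.symm h₂.symm h₃.symm ⟨k, hk, hx⟩
  obtain ⟨k₀, hk₀, hx2⟩ := hsk
  obtain ⟨A, j, i, hA, hj, hi, hcase₁⟩ := h₁.shape
  replace hi := hi rfl
  have hA' : 2 * A = x₁ + 1 := by omega
  obtain ⟨B, k, u, hB, hk, -, hcase₂⟩ := h₂.shape
  obtain ⟨hxk, hBu⟩ : x₂ = s ^ k ∧ B = t ^ u := by
    rcases hcase₂ with h | ⟨hx, -⟩
    · exact h
    · exfalso
      exact not_both_dvd hs ht hst (Or.inr hx) (hx2 ▸ dvd_pow_self s (by omega))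
        (hx ▸ dvd_pow_self t (by omega))
  obtain ⟨C, l, v, hC, hl, -, hcase₃⟩ := h₃.shape
  have hB' : x₂ = 2 * B + 1 := by omega
  have hC' : x₃ = 2 * C + 1 := by omega
  have hsx2 : s ∣ x₂ := hxk ▸ dvd_pow_self s (by omega)
  rcases hcase₃ with ⟨hxl, hCv⟩ | ⟨hxl, hCv⟩
  · -- both powers of `s`
    have hsx3 : s ∣ x₃ := hxl ▸ dvd_pow_self s (by omega)
    have hs1 : s ∣ x₁ + 1 := hrel ▸ dvd_add hsx2 hsx3
    obtain ⟨hx1, hAi⟩ : x₁ = t ^ j ∧ A = s ^ i := by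
      rcases hcase₁ with ⟨hx, -⟩ | h
      · exact absurd hs1 (not_dvd_succ hs (hx ▸ dvd_pow_self s (by omega)))
      · exact h
    obtain ⟨rfl, rfl⟩ := pow_sum hs hs2 (show 2 * s ^ i = s ^ k + s ^ l by
      rw [← hAi, ← hxk, ← hxl]; omega)
    have hu : u = 0 := by
      by_contra h0
      have h1 : t ∣ x₁ := hx1 ▸ dvd_pow_self t (by omega)
      have h2 : t ∣ 4 * B := dvd_mul_of_dvd_right (hBu ▸ dvd_pow_self t h0) 4
      have h3 : x₁ = 4 * B + 1 := by omega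
      exact not_dvd_succ ht h2 (h3 ▸ h1)
    rw [hu, pow_zero] at hBu
    omega
  · -- mixed
    exfalso
    have htx3 : t ∣ x₃ := hxl ▸ dvd_pow_self t (by omega)
    rcases Nat.eq_zero_or_pos v with hv | hv
    · rw [hv, pow_zero] at hCv
      rcases Nat.eq_zero_or_pos u with hu | hu
      · rw [hu, pow_zero] at hBu
        exact hst ((Nat.prime_dvd_prime_iff_eq hs Nat.prime_three).1
          (show s ∣ 3 by have : x₂ = 3 := by omega
                         rwa [this] at hsx2) |>.trans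
          ((Nat.prime_dvd_prime_iff_eq ht Nat.prime_three).1
            (show t ∣ 3 by have : x₃ = 3 := by omega
                           rwa [this] at htx3)).symm)
      · -- `x₃ = 3 = t`
        have ht3 : t = 3 := (Nat.prime_dvd_prime_iff_eq ht Nat.prime_three).1
          (show t ∣ 3 by have : x₃ = 3 := by omega
                         rwa [this] at htx3)
        have h1 : t ∣ x₁ := by
          have : x₁ = 2 * B + 3 := by omega
          rw [this]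
          exact dvd_add (dvd_mul_of_dvd_right (hBu ▸ dvd_pow_self t hu.ne') 2) ht3.dvd
        rcases hcase₁ with ⟨hx, -⟩ | ⟨-, hAi⟩
        · exact not_both_dvd hs ht hst (Or.inl hx) (hx ▸ dvd_pow_self s (by omega)) h1
        · have h2 : s ∣ x₂ + 3 := by
            have : x₂ + 3 = 2 * A := by omega
            rw [this]
            exact dvd_mul_of_dvd_right (hAi ▸ dvd_pow_self s (by omega)) 2
          have h3 := (Nat.prime_dvd_prime_iff_eq hs Nat.prime_three).1 ((Nat.dvd_add_right hsx2).1 h2)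
          omega
    · have hsC : s ∣ C := hCv ▸ dvd_pow_self s hv.ne'
      rcases Nat.eq_zero_or_pos u with hu | hu
      · rw [hu, pow_zero] at hBu
        have hs3 : s = 3 := (Nat.prime_dvd_prime_iff_eq hs Nat.prime_three).1
          (show s ∣ 3 by have : x₂ = 3 := by omega
                         rwa [this] at hsx2)
        have h1 : s ∣ x₁ := by
          have : x₁ = 2 * C + 3 := by omega
          rw [this]
          exact dvd_add (dvd_mul_of_dvd_right hsC 2) hs3.dvd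
        rcases hcase₁ with ⟨-, hAi⟩ | ⟨hx, -⟩
        · have h2 : t ∣ x₃ + 3 := by
            have : x₃ + 3 = 2 * A := by omega
            rw [this]
            exact dvd_mul_of_dvd_right (hAi ▸ dvd_pow_self t (by omega)) 2
          have h3 := (Nat.prime_dvd_prime_iff_eq ht Nat.prime_three).1 ((Nat.dvd_add_right htx3).1 h2)
          omega
        · exact not_both_dvd hs ht hst (Or.inr hx) h1 (hx ▸ dvd_pow_self t (by omega))
      · have h1 : t ∣ x₁ := by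
          have : x₁ = 2 * B + x₃ := by omega
          rw [this]
          exact dvd_add (dvd_mul_of_dvd_right (hBu ▸ dvd_pow_self t hu.ne') 2) htx3
        have h2 : s ∣ x₁ := by
          have : x₁ = x₂ + 2 * C := by omega
          rw [this]
          exact dvd_add hsx2 (dvd_mul_of_dvd_right hsC 2)
        rcases hcase₁ with ⟨hx, -⟩ | ⟨hx, -⟩
        · exact not_both_dvd hs ht hst (Or.inl hx) h2 h1
        · exact not_both_dvd hs ht hst (Or.inr hx) h2 h1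

/-- One negative sign is impossible. -/
theorem ppm {s t x₁ x₂ q : ℕ} (hs : s.Prime) (ht : t.Prime) (hst : s ≠ t)
    (h₁ : Good s t x₁ 1) (h₂ : Good s t x₂ 1) (h₃ : Good s t q (-1))
    (hrel : x₁ + x₂ + 1 = q) : False := by
  wlog hsk : ∃ k : ℕ, 1 ≤ k ∧ x₁ = s ^ k generalizing s t with H
  · obtain ⟨A, k, u, -, hk, -, ⟨hx, -⟩ | ⟨hx, -⟩⟩ := h₁.shape
    · exact absurd ⟨k, hk, hx⟩ hsk
    · exact H ht hs hst.symm h₁.symm h₂.symm h₃.symm ⟨k, hk, hx⟩
  obtain ⟨k₀, hk₀, hx1⟩ := hsk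
  have hsx1 : s ∣ x₁ := hx1 ▸ dvd_pow_self s (by omega)
  obtain ⟨A, k, u, hA, hk, hu, hc₁⟩ := h₁.shape
  replace hu := hu rfl
  have htA : t ∣ x₁ + 1 := by
    rcases hc₁ with ⟨-, hA'⟩ | ⟨hx, -⟩
    · have : x₁ + 1 = 2 * A := by omega
      rw [this]
      exact dvd_mul_of_dvd_right (hA' ▸ dvd_pow_self t (by omega)) 2
    · exact (not_both_dvd hs ht hst (Or.inr hx) hsx1 (hx ▸ dvd_pow_self t (by omega))).elim
  obtain ⟨C, m, w, -, hm, -, hc₃⟩ := h₃.shape
  have hq : q = s ^ m ∨ q = t ^ m := hc₃.imp And.left And.left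
  obtain ⟨A₂, l, v, hA₂, hl, hv, hc₂⟩ := h₂.shape
  replace hv := hv rfl
  have hA2' : x₂ + 1 = 2 * A₂ := by omega
  rcases hc₂ with ⟨hx, hA'⟩ | ⟨hx, hA'⟩
  · have h2 : s ∣ x₁ + x₂ := dvd_add hsx1 (hx ▸ dvd_pow_self s (by omega))
    have h3 : t ∣ q + 1 := by
      rw [show q + 1 = (x₁ + 1) + (x₂ + 1) by omega]
      exact dvd_add htA (hA2' ▸ dvd_mul_of_dvd_right (hA' ▸ dvd_pow_self t (by omega)) 2)
    rcases hq with h | h
    · refine not_dvd_succ hs h2 ?_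
      rw [hrel, h]
      exact dvd_pow_self s (by omega)
    · exact not_dvd_succ ht (h ▸ dvd_pow_self t (by omega)) h3
  · refine not_both_dvd hs ht hst hq ?_ ?_
    · rw [show q = x₁ + (x₂ + 1) by omega]
      exact dvd_add hsx1 (hA2' ▸ dvd_mul_of_dvd_right (hA' ▸ dvd_pow_self s (by omega)) 2)
    · rw [show q = (x₁ + 1) + x₂ by omega]
      exact dvd_add htA (hx ▸ dvd_pow_self t (by omega))

/-- The only solution of the degree equation: some degree equals three with sign `-1`. -/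
theorem degrees {s t x₁ x₂ x₃ : ℕ} {e₁ e₂ e₃ : ℤ} (hs : s.Prime) (ht : t.Prime) (hst : s ≠ t)
    (hs2 : s ≠ 2) (ht2 : t ≠ 2) (h₁ : Good s t x₁ e₁) (h₂ : Good s t x₂ e₂) (h₃ : Good s t x₃ e₃)
    (hrel : 1 + e₁ * x₁ + e₂ * x₂ + e₃ * x₃ = 0) :
    (e₁ = 1 ∧ e₂ = -1 ∧ e₃ = -1 ∧ x₁ = 5 ∧ x₂ = 3 ∧ x₃ = 3) ∨
    (e₁ = -1 ∧ e₂ = 1 ∧ e₃ = -1 ∧ x₁ = 3 ∧ x₂ = 5 ∧ x₃ = 3) ∨
    (e₁ = -1 ∧ e₂ = -1 ∧ e₃ = 1 ∧ x₁ = 3 ∧ x₂ = 3 ∧ x₃ = 5) := by
  have g1 := h₁.gt
  have g2 := h₂.gt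
  have g3 := h₃.gt
  rcases h₁.sgn with rfl | rfl <;> rcases h₂.sgn with rfl | rfl <;> rcases h₃.sgn with rfl | rfl
  · omega
  · exact (ppm hs ht hst h₁ h₂ h₃ (by omega)).elim
  · exact (ppm hs ht hst h₁ h₃ h₂ (by omega)).elim
  · obtain ⟨a, b, c⟩ := pmm hs ht hst hs2 ht2 h₁ h₂ h₃ (by omega)
    exact Or.inl ⟨rfl, rfl, rfl, a, b, c⟩
  · exact (ppm hs ht hst h₂ h₃ h₁ (by omega)).elim
  · obtain ⟨a, b, c⟩ := pmm hs ht hst hs2 ht2 h₂ h₁ h₃ (by omega)
    exact Or.inr (Or.inl ⟨rfl, rfl, rfl, b, a, c⟩)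
  · obtain ⟨a, b, c⟩ := pmm hs ht hst hs2 ht2 h₃ h₁ h₂ (by omega)
    exact Or.inr (Or.inr ⟨rfl, rfl, rfl, b, c, a⟩)
  · omega

end CfsgLib.PQOrders
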