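import Cfsg.Agent.Lib.PQOrders.Arith
import Cfsg.Agent.Lib.Blocks12.KleinOrder
import Cfsg.Agent.Lib.Recognition.RealDegreeThree
import Cfsg.Agent.Lib.Order7920.PrimeSection
import Cfsg.Agent.Lib.Blocks.Knorr
import Cfsg.Agent.Lib.Small.Basic

/-!
# Simple groups of order `4` times the powers of two odd primes
-/

set_option autoImplicit false
set_option linter.style.haveILetI false
set_option linter.unusedSectionVars false

noncomputable section

open Cfsg CfsgLib.Characters CfsgLib.Involutions CfsgLib.KleinOrder CfsgLib.CharCorr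
open scoped ComplexConjugate commutatorElement

namespace CfsgLib.PQOrders

universe u

variable {G : Type u} [Group G] [Fintype G]

open scoped Classical in
/-- The Frobenius-Schur relation of the principal block of a group with a fused four-group. -/
theorem indicator_sum (P : Sylow 2 G) (hP : IsKleinFour (P : Subgroup G))
    {χ : Fin 3 → IrrCharacter G} {ε : Fin 3 → ℤ}
    (hsum : ∀ η : IrrCharacter G, ∑ g ∈ Finset.univ.filter (fun g : G => 2 ∣ orderOf g),
        conj ((η : G → ℂ) g) =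
      (Nat.card G : ℂ) / 4 * ((if η = principalIrr G then 1 else 0) +
        (if η = χ 0 then (ε 0 : ℂ) else 0) + (if η = χ 1 then (ε 1 : ℂ) else 0) +
        (if η = χ 2 then (ε 2 : ℂ) else 0))) :
    1 + (ε 0 : ℂ) * FrobSchur.fsInd (χ 0 : G → ℂ) + (ε 1 : ℂ) * FrobSchur.fsInd (χ 1 : G → ℂ) +
      (ε 2 : ℂ) * FrobSchur.fsInd (χ 2 : G → ℂ) = 0 := by
  have h0 : ∑ η : IrrCharacter G, FrobSchur.fsInd (η : G → ℂ) *
      ∑ g ∈ Finset.univ.filter (fun g : G => 2 ∣ orderOf g), conj ((η : G → ℂ) g) = 0 := by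
    simp only [FrobSchur.fsInd_eq_sum, mul_assoc, ← Finset.mul_sum, Finset.sum_mul]
    rw [Finset.sum_comm]
    refine mul_eq_zero_of_right _ (Finset.sum_eq_zero fun w _ => ?_)
    simp only [Finset.mul_sum]
    rw [Finset.sum_comm]
    refine Finset.sum_eq_zero fun g hg => ?_
    rw [column_orth, if_neg]
    intro hc
    have hg' := (Finset.mem_filter.mp hg).2
    have h4 := klein_order_two_part P hP hg'
    have ho : orderOf (w * w) = orderOf g := orderOf_eq_of_isConj hc.symm
    have hw : 2 ∣ orderOf w := by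
      refine (ho ▸ hg').trans ?_
      rw [← pow_two, orderOf_pow]
      exact Nat.div_dvd_of_dvd (Nat.gcd_dvd_left _ _)
    have h5 := klein_order_two_part P hP hw
    rw [← pow_two, orderOf_pow, Nat.gcd_eq_right hw] at ho
    omega
  have hone0 : FrobSchur.fsInd (principalIrr G : G → ℂ) = 1 := by
    rw [FrobSchur.fsInd_eq_sum]
    simp [principalIrr]
  simp only [hsum, mul_add, Finset.sum_add_distrib, mul_ite, mul_zero, Finset.sum_ite_eq',
    Finset.mem_univ, if_true, hone0] at h0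
  have hG0 : (Nat.card G : ℂ) / 4 ≠ 0 :=
    div_ne_zero (Nat.cast_ne_zero.mpr Nat.card_pos.ne') (by norm_num)
  refine mul_left_cancel₀ hG0 ?_
  rw [mul_zero]
  linear_combination h0

/-- An odd degree has Frobenius-Schur indicator zero or one. -/
theorem fsInd_of_odd (χ : IrrCharacter G) (ho : Odd (charDegree (χ : G → ℂ))) :
    FrobSchur.fsInd (χ : G → ℂ) = 1 ∨ FrobSchur.fsInd (χ : G → ℂ) = 0 := by
  rcases FrobSchur.fsInd_cases χ.2 with ⟨hr', h' | h'⟩ | ⟨-, h'⟩
  · exact Or.inl h'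
  · exfalso
    obtain ⟨φ, hφ⟩ := χ
    obtain ⟨n, ρ, hρ, rfl⟩ := hφ
    obtain ⟨Bm, hB0, hBm⟩ := (FrobSchur.exists_invForm_iff_real ρ hρ).mpr hr'
    have hskew : Bm.transpose = -Bm := by
      rw [FrobSchur.transpose_eq_fsInd_smul ρ hρ hBm, h', neg_one_smul]
    have hev := FrobSchur.even_card_of_skew hskew
      (FrobSchur.isUnit_det_of_invForm ρ hρ hBm hB0).ne_zero
    rw [Fintype.card_fin] at hev
    have hn : charDegree ρ.character = n := LinearTwist.charDegree_eq_of_apply_one
      (by simp [Representation.char_one])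
    change Odd (charDegree ρ.character) at ho
    rw [hn] at ho
    exact (Nat.not_odd_iff_even.mpr hev) ho
  · exact Or.inr h'

variable [IsSimpleGroup G]

theorem commutator_eq_top (hnc : ¬ IsMulCommutative G) : commutator G = ⊤ := by
  rcases (inferInstance : (commutator G).Normal).eq_bot_or_eq_top with h | h
  · refine absurd ⟨⟨fun a b => ?_⟩⟩ hnc
    have h1 : ⁅a, b⁆ ∈ commutator G :=
      Subgroup.commutator_mem_commutator (Subgroup.mem_top a) (Subgroup.mem_top b)
    rw [h, Subgroup.mem_bot] at h1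
    exact commutatorElement_eq_one_iff_mul_comm.1 h1
  · exact h

/-- A simple group of order `4g₀` with `g₀` odd, divisible by at most two primes, has order 60. -/
theorem card_eq_sixty (hnc : ¬ IsMulCommutative G) {s t g₀ : ℕ} (hs : s.Prime) (ht : t.Prime)
    (hst : s ≠ t) (hs2 : s ≠ 2) (ht2 : t ≠ 2) (hg₀ : Odd g₀) (hG : Nat.card G = 4 * g₀)
    (hsupp : ∀ l : ℕ, l.Prime → l ∣ g₀ → l = s ∨ l = t) : Nat.card G = 60 := by
  classical
  haveI : Fact (Nat.Prime 2) := ⟨Nat.prime_two⟩
  have hN : ¬ ∃ N : Subgroup G, N.Normal ∧ Nat.card N = g₀ := by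
    rintro ⟨N, hN, hc⟩
    rcases hN.eq_bot_or_eq_top with rfl | rfl
    · rw [Subgroup.card_bot] at hc
      have : IsMulCommutative G := by
        rw [← hc, mul_one] at hG
        exact IsPGroup.isMulCommutative_of_card_eq_prime_sq (p := 2) (by rw [hG]; norm_num)
      exact hnc this
    · rw [Subgroup.card_top] at hc
      have := Nat.odd_iff.1 hg₀
      omega
  obtain ⟨P⟩ : Nonempty (Sylow 2 G) := inferInstance
  obtain ⟨hP, hone⟩ := klein_setup P g₀ hg₀ hG hN
  obtain ⟨M, hM⟩ := CfsgLib.Blocks.exists_isPModular (p := 2)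
  obtain ⟨D⟩ := exists_kleinFamily P hP principalConstant hM hone
  obtain ⟨J₀, hJ₀⟩ := exists_prime_orderOf_dvd_card' (G := (P : Subgroup G)) 2
    (by rw [hP.card_four]; norm_num)
  obtain ⟨J, hJ, hJ2⟩ : ∃ J : G, J ∈ (P : Subgroup G) ∧ orderOf J = 2 :=
    ⟨J₀, J₀.2, by rw [Subgroup.orderOf_coe]; exact hJ₀⟩
  -- the members of the principal block
  have hex : ∀ i : Fin 4, ∃ (χ : IrrCharacter G) (e : ℤ), χ ∈ principalBlock M G ∧
      (e = 1 ∨ e = -1) ∧ (χ : G → ℂ) = (e : ℂ) • D.q i := by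
    intro i
    obtain ⟨χ, hχ⟩ : ∃ χ : IrrCharacter G, classInner (D.q i) (χ : G → ℂ) ≠ 0 := by
      by_contra! hall
      have h := D.q_inner i i
      rw [classInner_eq_sum_mul (isClassFunction_of_isGeneralizedCharacter (D.q_gen i)), if_pos rfl,
        Finset.sum_eq_zero fun χ _ => by rw [hall χ, zero_mul]] at h
      exact zero_ne_one h
    have hχB : χ ∈ principalBlock M G := by
      by_contra h
      exact hχ (D.q_out i χ h)
    obtain ⟨j, e, he, hj⟩ := D.block χ hχB
    have hij : i = j := by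
      by_contra h
      rw [hj, classInner_smul_right, D.q_inner, if_neg h, mul_zero] at hχ
      exact hχ rfl
    subst hij
    rcases he with rfl | rfl
    · exact ⟨χ, 1, hχB, Or.inl rfl, by rw [hj, Int.cast_one]⟩
    · exact ⟨χ, -1, hχB, Or.inr rfl, by rw [hj, Int.cast_neg, Int.cast_one]⟩
  choose χ e hχB he hχ using hex
  have hinj : Function.Injective χ := by
    intro i j hij
    by_contra h
    have h1 : classInner ((χ i : IrrCharacter G) : G → ℂ) (χ j : G → ℂ) = 0 := by
      rw [hχ i, hχ j, classInner_smul_left, classInner_smul_right, D.q_inner, if_neg h, mul_zero,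
        mul_zero]
    rw [hij, classInner_irr_self (χ j).2] at h1
    exact one_ne_zero h1
  have hmem : ∀ η : IrrCharacter G, η ∈ principalBlock M G → ∃ i, η = χ i := by
    intro η hη
    obtain ⟨i, c, -, hi⟩ := D.block η hη
    refine ⟨i, ?_⟩
    by_contra h
    have h1 := classInner_irr_ne η.2 (χ i).2 fun hh => h (Subtype.ext hh)
    rw [hi, hχ i, classInner_smul_left, classInner_smul_right, D.q_inner, if_pos rfl, mul_one] at h1
    rcases mul_eq_zero.1 h1 with h2 | h2
    · rw [h2, zero_smul] at hi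
      exact irr_one_ne_zero η (congrFun hi 1)
    · rcases he i with h3 | h3 <;> rw [h3] at h2 <;> norm_num at h2
  have hJe : ∀ i, (χ i : G → ℂ) J = (e i : ℂ) := fun i => by
    rw [hχ i, Pi.smul_apply, D.q_even i J (by rw [hJ2]), smul_eq_mul, mul_one]
  have hχ0 : (χ 0 : G → ℂ) = fun _ => 1 := by
    have h0 : D.q 0 = fun _ => 1 := funext D.q_zero
    rcases he 0 with h | h
    · rw [hχ 0, h, h0]; funext g; simp
    · exfalso
      have := congrFun (hχ 0) 1
      rw [h, h0, irr_one_eq_charDegree] at this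
      simp only [Int.cast_neg, Int.cast_one, Pi.smul_apply, smul_eq_mul, mul_one] at this
      have h' : ((charDegree (χ 0 : G → ℂ) : ℤ) : ℂ) = ((-1 : ℤ) : ℂ) := by push_cast; exact this
      have := Int.cast_inj.1 h'
      omega
  have hne : ∀ i : Fin 4, i ≠ 0 → (χ i : G → ℂ) ≠ fun _ => 1 := fun i hi h =>
    hi (hinj (Subtype.ext (h.trans hχ0.symm)))
  have hB : principalBlock M G =
      {η : IrrCharacter G | (η : G → ℂ) = (fun _ => 1) ∨ η = χ 1 ∨ η = χ 2 ∨ η = χ 3} := by
    ext η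
    constructor
    · intro hη
      obtain ⟨i, rfl⟩ := hmem η hη
      fin_cases i
      · exact Or.inl hχ0
      · exact Or.inr (Or.inl rfl)
      · exact Or.inr (Or.inr (Or.inl rfl))
      · exact Or.inr (Or.inr (Or.inr rfl))
    · rintro (h | rfl | rfl | rfl)
      · rw [show η = χ 0 from Subtype.ext (h.trans hχ0.symm)]; exact hχB 0
      all_goals exact hχB _
  have hdist : (χ 1 : G → ℂ) ≠ (fun _ => 1) ∧ (χ 2 : G → ℂ) ≠ (fun _ => 1) ∧
      (χ 3 : G → ℂ) ≠ (fun _ => 1) ∧ χ 1 ≠ χ 2 ∧ χ 1 ≠ χ 3 ∧ χ 2 ≠ χ 3 :=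
    ⟨hne 1 (by decide), hne 2 (by decide), hne 3 (by decide), fun h => absurd (hinj h) (by decide),
      fun h => absurd (hinj h) (by decide), fun h => absurd (hinj h) (by decide)⟩
  obtain ⟨hsum, hrel⟩ := block_data P hP hone hM hJ hJ2 hB hdist ⟨he 1, he 2, he 3⟩
    ⟨hJe 1, hJe 2, hJe 3⟩
  have hord := order_formula P hP hone hM hJ hJ2 hB hdist ⟨he 1, he 2, he 3⟩ ⟨hJe 1, hJe 2, hJe 3⟩
  set a := Nat.card (Subgroup.centralizer ({J} : Set G)) with ha
  set c := Nat.card (Subgroup.centralizer ((P : Subgroup G) : Set G)) with hc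
  have hdvd : ∀ i, charDegree (χ i : G → ℂ) ∣ Nat.card G := fun i => charDegree_irr_dvd_card _
  have hgt : ∀ i : Fin 4, i ≠ 0 → 1 < charDegree (χ i : G → ℂ) := by
    intro i hi
    have := Chars17.irrDegree_pos (χ i)
    by_contra hcon
    have h1 := Order7920.eq_principal_of_charDegree_one hnc (χ := χ i) (by omega)
    exact hne i hi (congrArg Subtype.val h1)
  -- congruences modulo four
  have hmod : ∀ i, (4 : ℤ) ∣ (charDegree (χ i : G → ℂ) : ℤ) - e i := by
    intro i
    obtain ⟨k, hk⟩ := ClassCount.exists_mult (χ i) (P : Subgroup G)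
    rw [hP.card_four, ← Finset.add_sum_erase _ _ (Finset.mem_univ (1 : (P : Subgroup G))),
      Finset.sum_congr rfl ((fun y hy => by
        have h1 : ((y : G)⁻¹) ≠ 1 := fun h => (Finset.mem_erase.1 hy).1
          (Subtype.ext (inv_eq_one.1 h))
        rw [← hJe i]
        exact classFunction_eq_of_isConj (irr_isClassFunction (χ i))
          (hone _ J (klein_orderOf P hP (inv_mem y.2) h1) hJ2)) :
        ∀ y ∈ Finset.univ.erase (1 : (P : Subgroup G)), (χ i : G → ℂ) ((y : G)⁻¹) = (e i : ℂ)),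
      Finset.sum_const, Finset.card_erase_of_mem (Finset.mem_univ _), Finset.card_univ,
      ← Nat.card_eq_fintype_card, hP.card_four, OneMemClass.coe_one, inv_one,
      irr_one_eq_charDegree] at hk
    have h' : ((charDegree (χ i : G → ℂ) + 3 * e i : ℤ) : ℂ) = ((4 * k : ℤ) : ℂ) := by
      push_cast
      simpa using hk
    exact ⟨k - e i, by have := Int.cast_inj.1 h'; omega⟩
  have hsuppG : ∀ l : ℕ, l.Prime → l ∣ Nat.card G → l = 2 ∨ l = s ∨ l = t := by
    intro l hl hd
    rw [hG, show 4 * g₀ = 2 ^ 2 * g₀ by norm_num] at hd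
    rcases hl.dvd_mul.1 hd with h | h
    · exact Or.inl ((Nat.prime_dvd_prime_iff_eq hl Nat.prime_two).1 (hl.dvd_of_dvd_pow h))
    · exact Or.inr (hsupp l hl h)
  have hsuppX : ∀ (i : Fin 4) (l : ℕ), l.Prime → l ∣ charDegree (χ i : G → ℂ) → l = s ∨ l = t := by
    intro i l hl hd
    rcases hsuppG l hl (hd.trans (hdvd i)) with rfl | h
    · exfalso
      have := hmod i
      rcases he i with h | h <;> omega
    · exact h
  -- clear denominators
  have hkey : (Nat.card G : ℤ) * (c : ℤ) ^ 2 * (((charDegree (χ 1 : G → ℂ) : ℤ) + e 1) *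
      ((charDegree (χ 2 : G → ℂ) : ℤ) + e 2) * ((charDegree (χ 3 : G → ℂ) : ℤ) + e 3)) =
      8 * ((charDegree (χ 1 : G → ℂ) : ℤ) * charDegree (χ 2 : G → ℂ) * charDegree (χ 3 : G → ℂ)) *
        (a : ℤ) ^ 3 := by
    have hnz : ∀ i : Fin 4, i ≠ 0 → ((charDegree (χ i : G → ℂ) : ℚ) + e i) ≠ 0 := by
      intro i hi h
      have h' : ((((charDegree (χ i : G → ℂ) : ℤ) + e i : ℤ)) : ℚ) = 0 := by push_cast; exact h
      have := Int.cast_eq_zero.1 h'
      have := hgt i hi
      rcases he i with h | h <;> omega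
    have hc0 : (c : ℚ) ≠ 0 := Nat.cast_ne_zero.2 Nat.card_pos.ne'
    have h1 := hnz 1 (by decide)
    have h2 := hnz 2 (by decide)
    have h3 := hnz 3 (by decide)
    field_simp at hord
    have : (((Nat.card G : ℤ) * (c : ℤ) ^ 2 * (((charDegree (χ 1 : G → ℂ) : ℤ) + e 1) *
      ((charDegree (χ 2 : G → ℂ) : ℤ) + e 2) * ((charDegree (χ 3 : G → ℂ) : ℤ) + e 3)) : ℤ) : ℚ) =
      ((8 * ((charDegree (χ 1 : G → ℂ) : ℤ) * charDegree (χ 2 : G → ℂ) * charDegree (χ 3 : G → ℂ)) *
        (a : ℤ) ^ 3 : ℤ) : ℚ) := by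
      push_cast
      linear_combination hord
    exact_mod_cast this
  have hsuppA : ∀ (i : Fin 4), i ≠ 0 → ∀ l : ℕ, l.Prime →
      (l : ℤ) ∣ (charDegree (χ i : G → ℂ) : ℤ) + e i → l = 2 ∨ l = s ∨ l = t := by
    intro i hi l hl hd
    have hd' : (l : ℤ) ∣ 8 * ((charDegree (χ 1 : G → ℂ) : ℤ) * charDegree (χ 2 : G → ℂ) *
        charDegree (χ 3 : G → ℂ)) * (a : ℤ) ^ 3 := by
      rw [← hkey]
      refine dvd_mul_of_dvd_right ?_ _
      fin_cases i
      · exact absurd rfl hi
      · exact dvd_mul_of_dvd_left (dvd_mul_of_dvd_left hd _) _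
      · exact dvd_mul_of_dvd_left (dvd_mul_of_dvd_right hd _) _
      · exact dvd_mul_of_dvd_right hd _
    have hd'' : l ∣ 2 ^ 3 * (charDegree (χ 1 : G → ℂ) * charDegree (χ 2 : G → ℂ) *
        charDegree (χ 3 : G → ℂ)) * a ^ 3 := by
      rw [← Int.natCast_dvd_natCast]
      push_cast
      exact hd'
    rcases hl.dvd_mul.1 hd'' with h | h
    · rcases hl.dvd_mul.1 h with h | h
      · exact Or.inl ((Nat.prime_dvd_prime_iff_eq hl Nat.prime_two).1 (hl.dvd_of_dvd_pow h))
      · rcases hl.dvd_mul.1 h with h | h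
        · rcases hl.dvd_mul.1 h with h | h
          · exact hsuppG l hl (h.trans (hdvd 1))
          · exact hsuppG l hl (h.trans (hdvd 2))
        · exact hsuppG l hl (h.trans (hdvd 3))
    · exact hsuppG l hl ((hl.dvd_of_dvd_pow h).trans (Subgroup.card_subgroup_dvd_card _))
  have hgood : ∀ i : Fin 4, i ≠ 0 → Good s t (charDegree (χ i : G → ℂ)) (e i) := fun i hi =>
    ⟨he i, hgt i hi, hmod i, hsuppX i, hsuppA i hi⟩
  have hfs := indicator_sum P hP (χ := ![χ 1, χ 2, χ 3]) (ε := ![e 1, e 2, e 3])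
    (fun η => by convert hsum η using 6 <;> rfl)
  simp only [Matrix.cons_val_zero, Matrix.cons_val_one, Matrix.cons_val] at hfs
  have hodd : ∀ i, Odd (charDegree (χ i : G → ℂ)) := fun i => by
    rw [Nat.odd_iff]
    have := hmod i
    rcases he i with h | h <;> omega
  have hfin : ∀ i : Fin 4, i ≠ 0 → charDegree (χ i : G → ℂ) = 3 →
      FrobSchur.fsInd (χ i : G → ℂ) = 1 → Nat.card G = 60 := by
    intro i hi h3 h1
    refine (RealDegreeThree.card_eq_sixty (commutator_eq_top hnc) (χ i)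
      (by rw [irr_one_eq_charDegree, h3]; norm_num)
      (FrobSchur.real_of_fsInd_ne_zero (χ i).2 (by rw [h1]; exact one_ne_zero)) ?_).1
    intro g hg
    refine Order7920.eq_one_of_apply_eq_one (fun h => hne i hi (congrArg Subtype.val h)) ?_
    rw [hg, irr_one_eq_charDegree, h3]
    norm_num
  rcases degrees hs ht hst hs2 ht2 (hgood 1 (by decide)) (hgood 2 (by decide)) (hgood 3 (by decide))
    hrel with ⟨h1, h2, h3, -, x2, x3⟩ | ⟨h1, h2, h3, x1, -, x3⟩ | ⟨h1, h2, h3, x1, x2, -⟩
  · rcases fsInd_of_odd _ (hodd 2) with a2 | a2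
    · exact hfin 2 (by decide) x2 a2
    · rcases fsInd_of_odd _ (hodd 3) with a3 | a3
      · exact hfin 3 (by decide) x3 a3
      · exfalso
        rcases fsInd_of_odd _ (hodd 1) with a1 | a1 <;> rw [h1, h2, h3, a1, a2, a3] at hfs <;>
          norm_num at hfs
  · rcases fsInd_of_odd _ (hodd 1) with a1 | a1
    · exact hfin 1 (by decide) x1 a1
    · rcases fsInd_of_odd _ (hodd 3) with a3 | a3
      · exact hfin 3 (by decide) x3 a3
      · exfalso
        rcases fsInd_of_odd _ (hodd 2) with a2 | a2 <;> rw [h1, h2, h3, a1, a2, a3] at hfs <;>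
          norm_num at hfs
  · rcases fsInd_of_odd _ (hodd 1) with a1 | a1
    · exact hfin 1 (by decide) x1 a1
    · rcases fsInd_of_odd _ (hodd 2) with a2 | a2
      · exact hfin 2 (by decide) x2 a2
      · exfalso
        rcases fsInd_of_odd _ (hodd 3) with a3 | a3 <;> rw [h1, h2, h3, a1, a2, a3] at hfs <;>
          norm_num at hfs

end CfsgLib.PQOrders
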